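import Cfsg.Agent.RuD.Rels

/-! The 24 relations: `RuRels` and the commutator relation `[(e ^ f) ^ y, t] = e ^ f`, `e = s²`. -/

set_option autoImplicit false

namespace Cfsg.Agent.RuD.Rels

open Cfsg.Agent.SporRec.TCUpperCert

/-- the 24 relations -/
structure RuRelsX {G : Type*} [Group G] (t s w f d y : G) : Prop extends RuRels t s w f d y where
  xt : y * f⁻¹ * s * s * f * y * t * y * f⁻¹ * s * s * f * y * t * f⁻¹ * s * s * f = 1

/-- the word of `xt`, in the letters `0..8` = `t, s, w, f, d, y, s⁻¹, f⁻¹, d⁻¹` -/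
def wordXt : List ℕ := [5, 7, 1, 1, 3, 5, 0, 5, 7, 1, 1, 3, 5, 0, 7, 1, 1, 3]

theorem wprod_wordXt {G : Type*} [Group G] (t s w f d y : G) : wprod (letters t s w f d y) wordXt =
    y * f⁻¹ * s * s * f * y * t * y * f⁻¹ * s * s * f * y * t * f⁻¹ * s * s * f := by
  simp only [wordXt, wprod, lv, letters, List.map_cons, List.map_nil, List.prod_cons, List.prod_nil, mul_one,
    List.getD_cons_zero, List.getD_cons_succ, mul_assoc]

end Cfsg.Agent.RuD.Rels
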