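import Cfsg.Agent.SporRec.TCUpperCert

/-! Generated by tools/tcupper/emit.py: static coset enumeration certificate, 64 cosets, 0 temporary nodes,
4 columns, 256 entries. -/

set_option autoImplicit false
set_option maxRecDepth 100000

namespace Cfsg.Agent.RuD.TCB

open Cfsg.Agent.SporRec.TCUpper Cfsg.Agent.SporRec.TCUpperCert

def T0 : ℕ := 0x3fe86707a4ff0fd46962f0ed3aa85c41d7992728571f34e385446c5655b07934753fb79147c2f64e41783ee78e84c71f72183983734f78b59684983483184861a69e84782b84682882684582282084481b81881581281080d80a782840803801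
def T1 : ℕ := 0x4bc43f0bb4274290bd85e12485d2a642a8581b12338575ec6793a313842e8523f74ba85083e84f52d4a54b084d6df84c7606d447583684a6557f48498325da84882f7eb8477e884631c7e28458217db84481981681381180e80b8417c3840802
def T2 : ℕ := 0x2397b567c8628604ab46185d37133785865a67432e2b851f47e85383f4ef7168504bb72a84f79484e83d7267152b249984b83a84a43661284976875b8338306e584782d82c7678298458248237d181e81c8438178427cd84180c808806804840
def T3 : ℕ := 0x86d42f8646bd46985e27f2712f63dc7fe6338572e13b78564ac3728538524fa6e885071971176369584e84d83c4b983b57084b83884a7186b44e083584876b7627e682e65b78c82a82782578684481f81d81a84381484280f841809807805800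
def tabs : List ℕ := [T0, T1, T2, T3]
def dc : ℕ := 0xceb649c72f6d9bd1bb61c611871bbb44
noncomputable def look (c n : ℕ) : ℕ := lookF tabs 12 4095 c n
noncomputable def dcol (n : ℕ) : ℕ := Nat.land (Nat.shiftRight dc (Nat.mul 2 n)) 3
def inv : List ℕ := [1, 0, 3, 2]
def lab : List ℕ := [0, 1, 2, 3]
def fxl : List ℕ := [2]
def rels : List (List ℕ) := [
  [0, 0, 0, 0],
  [2, 2, 2, 2, 2, 2, 2],
  [3, 3, 3, 1, 2, 2, 1, 2, 1],
  [3, 1, 1, 2, 1, 3, 1, 1, 2, 0],
  [3, 1, 2, 1, 1, 3, 0, 2, 1, 1]]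
noncomputable def fx (c : ℕ) : Bool := memb fxl (nth lab c)
def TM0 : List (Bool × List ℕ) := [(false, [1]), (true, [1, 1, 1]), (true, [3, 3, 3, 1, 2, 2, 1, 2]), (true, [2, 1, 1, 3, 0, 2, 1, 1, 3]), (true, [2, 2, 1, 2, 1, 3, 3, 3]), (true, [1, 3, 0, 2, 1, 1, 3, 1, 2]), (true, [3, 0, 2, 1, 1, 3, 1, 2, 1]), (true, [3, 1, 1, 2, 0, 3, 1, 1, 2])]
def TM1 : List (Bool × List ℕ) := [(false, [0]), (true, [0, 0, 0]), (true, [3, 0, 3, 3, 0, 2, 2, 2]), (true, [2, 2, 2, 0, 3, 0, 3, 3]), (true, [2, 0, 3, 0, 0, 2, 1, 3, 0]), (true, [2, 1, 1, 3, 1, 2, 1, 1, 3])]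
def TM2 : List (Bool × List ℕ) := [(false, [3]), (true, [3, 3, 3, 3, 3, 3]), (true, [3, 0, 2, 2, 2, 0, 3, 0]), (true, [3, 3, 1, 2, 2, 1, 2, 1]), (true, [0, 2, 0, 0, 3, 1, 2, 0, 0]), (true, [0, 2, 1, 1, 3, 1, 2, 1, 1]), (true, [0, 2, 2, 2, 0, 3, 0, 3]), (true, [1, 2, 0, 0, 3, 0, 2, 0, 0]), (true, [3, 1, 2, 2, 1, 2, 1, 3])]
def TM3 : List (Bool × List ℕ) := [(false, [2]), (true, [1, 3, 3, 3, 1, 2, 2, 1]), (true, [2, 2, 2, 2, 2, 2]), (true, [2, 1, 2, 1, 3, 3, 3, 1]), (true, [0, 3, 0, 0, 2, 1, 3, 0, 0]), (true, [1, 2, 1, 3, 3, 3, 1, 2]), (true, [1, 3, 0, 0, 2, 0, 3, 0, 0]), (true, [2, 0, 3, 0, 3, 3, 0, 2]), (true, [2, 2, 0, 3, 0, 3, 3, 0])]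
def TT : List (List (Bool × List ℕ)) := [TM0, TM1, TM2, TM3]

theorem tt_ok : allOK 4 inv lab (withInv 4 inv rels) TT 0 = true := by decide +kernel
theorem bits_ok : bitsLt (12 * 64) tabs = true := by decide +kernel
theorem tabs_len : tabs.length = TT.length := rfl

theorem chunk0 : RangeOk look 63 4 64 dcol fx TT 0 64 :=
  RangeOk.of_chunk (S := 64) (pb := 9) (pm := 511) 64 (by decide) rfl (DD := [
  (0, (0, 0x0), (12, 0x1f0d8642f108642c13088381602), [(37, 0x3f1e8e872381b8d4682c158a45022100783a1b0d0602e150a048200f0683014090401c0c050200c0200), (4, 0x18898461f), (4, 0x1e0ec6624), (2, 0x5c2a), (2, 0x6027), (1, 0x25), (1, 0x1c), (1, 0x2d)]),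
  (0, (0, 0x0), (18, 0x72371a0c4562813088401b0c0542410068280601), [(27, 0xfc7a3c1c0d86a33190b858271289046210e05c280f060241007030140800), (12, 0x1f0e85e2d150642c13088381602), (3, 0xc0521e), (2, 0x761a), (1, 0x1f), (1, 0x1d)]),
  (1, (0, 0x0), (16, 0x1e0ec7035170a84e250f8743414078240e05), [(33, 0x3f1f0f474391b8d06430168ac4c241188842200f06c2e1609848200e0682c14080200c0401), (5, 0x33188bc5211), (2, 0x6c06), (2, 0x380c), (1, 0x19), (1, 0x2c), (1, 0x28), (1, 0x18), (1, 0x15)]),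
  (0, (0, 0x0), (17, 0x3f1e8e86630168b05224118783817060200c04), [(31, 0xf876381b8d8682f150a04e25110803a1b0c04c2210078381a0b050240e05018080200), (4, 0x188b84219), (4, 0x1e0e45626), (3, 0xd4641a), (1, 0x16), (1, 0x12), (1, 0x15), (1, 0x1f), (1, 0x14)])]) (by decide +kernel)

theorem valid : Valid look 63 4 64 64 dcol fx TT where
  fin := chunk0
  rest := RangeOk.nil 64
  out := fun c n h => by
    have := lookF_ne_zero bits_ok c n h
    exact ⟨this.1, this.2⟩
  bdd := ⟨_, fun c n => lookF_le tabs _ _ c n⟩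
  cols := by decide
  pos := by decide

end Cfsg.Agent.RuD.TCB
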