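import Cfsg.Agent.SporRec.TCUpperCert

/-! Generated by tools/tcupper/emit.py: static coset enumeration certificate, 12 cosets, 0 temporary nodes,
8 columns, 96 entries. -/

set_option autoImplicit false
set_option maxRecDepth 100000

namespace Cfsg.Agent.RuD.TCH

open Cfsg.Agent.SporRec.TCUpper Cfsg.Agent.SporRec.TCUpperCert

def T0 : ℕ := 0x7a8bb5b4b3b2a9a8a7a6b0a1
def T1 : ℕ := 0x6b6a696877767574838281b0
def T2 : ℕ := 0x7b7a797887868584939291a0
def T3 : ℕ := 0x7b7a797887868584939291b0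
def T4 : ℕ := 0x2b3a693877467564837281b0
def T5 : ℕ := 0x1b4a794887568554936291a0
def T6 : ℕ := 0x68b67a87ab99b195b093a4a2
def T7 : ℕ := 0xb769867b98aa84b182b0a5a3
def tabs : List ℕ := [T0, T1, T2, T3, T4, T5, T6, T7]
def dc : ℕ := 0xf80037dc0
noncomputable def look (c n : ℕ) : ℕ := lookF tabs 8 255 c n
noncomputable def dcol (n : ℕ) : ℕ := Nat.land (Nat.shiftRight dc (Nat.mul 3 n)) 7
def inv : List ℕ := [0, 2, 1, 3, 5, 4, 7, 6]
def lab : List ℕ := [0, 1, 2, 3, 4, 5, 6, 7]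
def fxl : List ℕ := [1, 3, 4]
def rels : List (List ℕ) := [
  [1, 1, 1, 1],
  [3, 3],
  [4, 4, 4, 4, 4, 4, 4],
  [3, 4, 3, 4],
  [2, 2, 3, 1, 3, 2, 3],
  [5, 5, 5, 2, 4, 4, 2, 4, 2],
  [5, 2, 2, 4, 2, 5, 2, 2, 4, 1],
  [5, 2, 4, 2, 2, 5, 1, 4, 2, 2],
  [0, 0],
  [6, 6, 6],
  [0, 6, 0, 6, 0, 6],
  [6, 1, 7, 2],
  [6, 3, 7, 3],
  [7, 4, 6, 5, 5, 5, 5],
  [0, 1, 0, 2],
  [0, 3, 0, 3],
  [0, 4, 0, 5]]
noncomputable def fx (c : ℕ) : Bool := memb fxl (nth lab c)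
def TM0 : List (Bool × List ℕ) := [(false, [0]), (true, [6, 0, 6, 0, 6])]
def TM1 : List (Bool × List ℕ) := [(false, [2])]
def TM2 : List (Bool × List ℕ) := [(true, [0, 2, 0]), (true, [6, 2, 7]), (true, [7, 2, 6]), (false, [1])]
def TM3 : List (Bool × List ℕ) := [(true, [0, 3, 0]), (true, [6, 3, 7]), (true, [7, 3, 6])]
def TM4 : List (Bool × List ℕ) := [(false, [5]), (true, [6, 4, 4, 4, 4, 7]), (true, [0, 4, 0])]
def TM5 : List (Bool × List ℕ) := [(true, [0, 5, 0]), (false, [4]), (true, [6, 5, 5, 5, 5, 7])]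
def TM6 : List (Bool × List ℕ) := [(false, [7]), (true, [7, 7]), (true, [0, 7, 0, 7, 0])]
def TM7 : List (Bool × List ℕ) := [(false, [6]), (true, [0, 6, 0, 6, 0]), (true, [6, 6])]
def TT : List (List (Bool × List ℕ)) := [TM0, TM1, TM2, TM3, TM4, TM5, TM6, TM7]

theorem tt_ok : allOK 8 inv lab (withInv 8 inv rels) TT 0 = true := by decide +kernel
theorem bits_ok : bitsLt (8 * 12) tabs = true := by decide +kernel
theorem tabs_len : tabs.length = TT.length := rfl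

theorem chunk0 : RangeOk look 15 8 12 dcol fx TT 0 12 :=
  RangeOk.of_chunk (S := 12) (pb := 9) (pm := 511) 12 (by decide) rfl (DD := [
  (0, (0, 0x0), (5, 0x90401c0c01), [(6, 0x16050200c0400), (1, 0xa)]),
  (1, (0, 0x0), (0, 0x0), [(11, 0x2c14090401c0c050200c0401)]),
  (0, (0, 0x0), (0, 0x0), [(5, 0x90401c0c01), (3, 0x280a03), (3, 0x2c0802), (1, 0x0)]),
  (1, (0, 0x0), (0, 0x0), [(5, 0x90401c0c01), (3, 0x280a03), (3, 0x2c0802)]),
  (1, (0, 0x0), (0, 0x0), [(8, 0x50241007030140601), (2, 0x802), (1, 0xb)]),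
  (0, (0, 0x0), (0, 0x0), [(5, 0x90401c0c01), (4, 0x58100400), (3, 0x280a03)]),
  (0, (0, 0x0), (3, 0x280a03), [(5, 0xb0401c0200), (3, 0x240802), (1, 0x6)]),
  (0, (0, 0x0), (3, 0x2c0802), [(7, 0x2812060280c0200), (1, 0x7), (1, 0x8)])]) (by decide +kernel)

theorem valid : Valid look 15 8 12 12 dcol fx TT where
  fin := chunk0
  rest := RangeOk.nil 12
  out := fun c n h => by
    have := lookF_ne_zero bits_ok c n h
    exact ⟨this.1, this.2⟩
  bdd := ⟨_, fun c n => lookF_le tabs _ _ c n⟩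
  cols := by decide
  pos := by decide

end Cfsg.Agent.RuD.TCH
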