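import Cfsg.Agent.SporRec.TCUpperCert

/-! The relations of the presentation of the Rudvalis group: `t, s, w, f, d` generate `(2² × Sz(8)) : 3`
(`s` of order 4 and the involution `w` generate `5 : 4`, `f` has order 7, `d` of order 3, `t` an involution of the
four-group), `y` is an involution centralising `5 : 4`. -/

set_option autoImplicit false

namespace Cfsg.Agent.RuD.Rels

open Cfsg.Agent.SporRec.TCUpperCert

/-- the 23 relations -/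
structure RuRels {G : Type*} [Group G] (t s w f d y : G) : Prop where
  s4 : s * s * s * s = 1
  w2 : w * w = 1
  f7 : f * f * f * f * f * f * f = 1
  wf : w * f * w * f = 1
  ws : s⁻¹ * s⁻¹ * w * s * w * s⁻¹ * w = 1
  h1 : f⁻¹ * f⁻¹ * f⁻¹ * s⁻¹ * f * f * s⁻¹ * f * s⁻¹ = 1
  h2 : f⁻¹ * s⁻¹ * s⁻¹ * f * s⁻¹ * f⁻¹ * s⁻¹ * s⁻¹ * f * s = 1
  h3 : f⁻¹ * s⁻¹ * f * s⁻¹ * s⁻¹ * f⁻¹ * s * f * s⁻¹ * s⁻¹ = 1
  t2 : t * t = 1
  d3 : d * d * d = 1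
  td : t * d * t * d * t * d = 1
  ds : d * s * d⁻¹ * s⁻¹ = 1
  dw : d * w * d⁻¹ * w = 1
  df : d⁻¹ * f * d * f⁻¹ * f⁻¹ * f⁻¹ * f⁻¹ = 1
  ts : t * s * t * s⁻¹ = 1
  tw : t * w * t * w = 1
  tf : t * f * t * f⁻¹ = 1
  y2 : y * y = 1
  yd : y * d * y * d = 1
  ty : t * y * t * y * t * y = 1
  ys : y * s * y * s⁻¹ = 1
  yw : y * w * y * w = 1
  last : f * s * f⁻¹ * y * f * s * f⁻¹ * y * f * s * f⁻¹ * y * s * s = 1

/-- the words, in the letters `0..8` = `t, s, w, f, d, y, s⁻¹, f⁻¹, d⁻¹` -/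
def words : List (List ℕ) := [
  [1, 1, 1, 1],
  [2, 2],
  [3, 3, 3, 3, 3, 3, 3],
  [2, 3, 2, 3],
  [6, 6, 2, 1, 2, 6, 2],
  [7, 7, 7, 6, 3, 3, 6, 3, 6],
  [7, 6, 6, 3, 6, 7, 6, 6, 3, 1],
  [7, 6, 3, 6, 6, 7, 1, 3, 6, 6],
  [0, 0],
  [4, 4, 4],
  [0, 4, 0, 4, 0, 4],
  [4, 1, 8, 6],
  [4, 2, 8, 2],
  [8, 3, 4, 7, 7, 7, 7],
  [0, 1, 0, 6],
  [0, 2, 0, 2],
  [0, 3, 0, 7],
  [5, 5],
  [5, 4, 5, 4],
  [0, 5, 0, 5, 0, 5],
  [5, 1, 5, 6],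
  [5, 2, 5, 2],
  [3, 1, 7, 5, 3, 1, 7, 5, 3, 1, 7, 5, 1, 1]]

/-- the list of letters -/
def letters {G : Type*} [Group G] (t s w f d y : G) : List G := [t, s, w, f, d, y, s⁻¹, f⁻¹, d⁻¹]

theorem ruRels_iff {G : Type*} [Group G] (t s w f d y : G) :
    RuRels t s w f d y ↔ ∀ r ∈ words, wprod (letters t s w f d y) r = 1 := by
  have key : (∀ r ∈ words, wprod (letters t s w f d y) r = 1) ↔
      ((s * s * s * s = 1) ∧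
      (w * w = 1) ∧
      (f * f * f * f * f * f * f = 1) ∧
      (w * f * w * f = 1) ∧
      (s⁻¹ * s⁻¹ * w * s * w * s⁻¹ * w = 1) ∧
      (f⁻¹ * f⁻¹ * f⁻¹ * s⁻¹ * f * f * s⁻¹ * f * s⁻¹ = 1) ∧
      (f⁻¹ * s⁻¹ * s⁻¹ * f * s⁻¹ * f⁻¹ * s⁻¹ * s⁻¹ * f * s = 1) ∧
      (f⁻¹ * s⁻¹ * f * s⁻¹ * s⁻¹ * f⁻¹ * s * f * s⁻¹ * s⁻¹ = 1) ∧
      (t * t = 1) ∧
      (d * d * d = 1) ∧
      (t * d * t * d * t * d = 1) ∧
      (d * s * d⁻¹ * s⁻¹ = 1) ∧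
      (d * w * d⁻¹ * w = 1) ∧
      (d⁻¹ * f * d * f⁻¹ * f⁻¹ * f⁻¹ * f⁻¹ = 1) ∧
      (t * s * t * s⁻¹ = 1) ∧
      (t * w * t * w = 1) ∧
      (t * f * t * f⁻¹ = 1) ∧
      (y * y = 1) ∧
      (y * d * y * d = 1) ∧
      (t * y * t * y * t * y = 1) ∧
      (y * s * y * s⁻¹ = 1) ∧
      (y * w * y * w = 1) ∧
      (f * s * f⁻¹ * y * f * s * f⁻¹ * y * f * s * f⁻¹ * y * s * s = 1)) := by
    simp only [words, List.forall_mem_cons, List.not_mem_nil, false_imp_iff, implies_true, and_true, wprod, lv, letters,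
      List.map_cons, List.map_nil, List.prod_cons, List.prod_nil, mul_one, List.getD_cons_zero, List.getD_cons_succ,
      mul_assoc]
  rw [key]
  constructor
  · rintro ⟨h0, h1, h2, h3, h4, h5, h6, h7, h8, h9, h10, h11, h12, h13, h14, h15, h16, h17, h18, h19, h20, h21, h22⟩
    exact ⟨h0, h1, h2, h3, h4, h5, h6, h7, h8, h9, h10, h11, h12, h13, h14, h15, h16, h17, h18, h19, h20, h21, h22⟩
  · rintro ⟨h0, h1, h2, h3, h4, h5, h6, h7, h8, h9, h10, h11, h12, h13, h14, h15, h16, h17, h18, h19, h20, h21, h22⟩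
    exact ⟨h0, h1, h2, h3, h4, h5, h6, h7, h8, h9, h10, h11, h12, h13, h14, h15, h16, h17, h18, h19, h20, h21, h22⟩

end Cfsg.Agent.RuD.Rels
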