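import Mathlib

/-! If the elements `x = (g, m)` of a set `A` in `G × M` generate a group of order at most `|M|`, where the second
components generate the finite simple group `M` and the first components are not all trivial, then the first components
generate a group isomorphic to `M`, by an isomorphism mapping first components to second components. -/

set_option autoImplicit false

namespace Cfsg.Agent.RuD.Close

open Subgroup

theorem exists_iso_set {G : Type*} {M : Type*} [Group G] [Group M] [Finite M] [IsSimpleGroup M]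
    (A : Set (G × M)) (hm : closure (Prod.snd '' A) = ⊤)
    (hfin : Nat.card (closure A) ≠ 0) (hcard : Nat.card (closure A) ≤ Nat.card M)
    (hne : ∃ x ∈ A, x.1 ≠ 1) :
    ∃ φ : closure (Prod.fst '' A) ≃* M, ∀ (x : G × M) (hx : x ∈ A),
      φ ⟨x.1, subset_closure ⟨x, hx, rfl⟩⟩ = x.2 := by
  set K : Subgroup (G × M) := closure A with hK
  have hKf : Finite K := Nat.finite_of_card_ne_zero hfin
  let p2 : K →* M := (MonoidHom.snd G M).comp K.subtype
  let p1 : K →* G := (MonoidHom.fst G M).comp K.subtype
  have hr2 : p2.range = ⊤ := by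
    rw [MonoidHom.range_comp, Subgroup.range_subtype, hK, MonoidHom.map_closure, ← hm]
    rfl
  have hr1 : p1.range = closure (Prod.fst '' A) := by
    rw [MonoidHom.range_comp, Subgroup.range_subtype, hK, MonoidHom.map_closure]
    rfl
  have hs2 : Function.Surjective p2 := MonoidHom.range_eq_top.1 hr2
  have hb2 : Function.Bijective p2 := by
    rw [Nat.bijective_iff_surjective_and_card]
    exact ⟨hs2, le_antisymm hcard (Nat.card_le_card_of_surjective _ hs2)⟩
  let e2 : K ≃* M := MulEquiv.ofBijective p2 hb2
  have : IsSimpleGroup K := e2.isSimpleGroup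
  have hker : p1.ker = ⊥ := by
    rcases (inferInstance : IsSimpleGroup K).eq_bot_or_eq_top_of_normal p1.ker inferInstance with h | h
    · exact h
    · exfalso
      obtain ⟨x, hxA, hx⟩ := hne
      apply hx
      have hmem : x ∈ K := subset_closure hxA
      have : (⟨x, hmem⟩ : K) ∈ p1.ker := by rw [h]; trivial
      exact this
  have hinj : Function.Injective p1 := (MonoidHom.ker_eq_bot_iff p1).1 hker
  let e1 : K ≃* p1.range := MonoidHom.ofInjective hinj
  refine ⟨(MulEquiv.subgroupCongr hr1).symm.trans (e1.symm.trans e2), fun x hx => ?_⟩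
  have hmem : x ∈ K := subset_closure hx
  have h1 : e1 ⟨x, hmem⟩ = (MulEquiv.subgroupCongr hr1).symm ⟨x.1, subset_closure ⟨x, hx, rfl⟩⟩ := Subtype.ext rfl
  rw [MulEquiv.trans_apply, MulEquiv.trans_apply, ← h1, MulEquiv.symm_apply_apply]
  rfl

theorem exists_iso {ι : Type*} {G : Type*} {M : Type*} [Group G] [Group M] [Finite M] [IsSimpleGroup M]
    (g : ι → G) (m : ι → M) (hm : closure (Set.range m) = ⊤)
    (hfin : Nat.card (closure (Set.range fun i => (g i, m i))) ≠ 0)
    (hcard : Nat.card (closure (Set.range fun i => (g i, m i))) ≤ Nat.card M)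
    (hne : ∃ i, g i ≠ 1) : Nonempty (closure (Set.range g) ≃* M) := by
  have e1 : Prod.fst '' Set.range (fun i => (g i, m i)) = Set.range g := by ext x; simp
  have e2 : Prod.snd '' Set.range (fun i => (g i, m i)) = Set.range m := by ext x; simp
  obtain ⟨φ, _⟩ := exists_iso_set (Set.range fun i => (g i, m i)) (by rw [e2]; exact hm) hfin hcard
    (by obtain ⟨i, hi⟩ := hne; exact ⟨_, ⟨i, rfl⟩, hi⟩)
  rw [e1] at φ
  exact ⟨φ⟩

end Cfsg.Agent.RuD.Close
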