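import Cfsg.Agent.RuD.Letters
import Cfsg.Agent.RuD.RelsX
import Cfsg.Agent.RuD.Close
import Cfsg.Agent.RuLat.Main
import Cfsg.Agent.SporadicB.RuSimple

/-!
* `rels_model`: the letters of `RuOrder.H` satisfy the relations;
* `card_cent`: the centraliser of `s²` has order at least `245760`;
* `ident`: a group generated by letters satisfying the relations is isomorphic to the Rudvalis group (given the bound
  on the order of such groups).
-/

set_option autoImplicit false
set_option maxRecDepth 100000
set_option exponentiation.threshold 5000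

namespace Cfsg.Agent.RuD.Model

open Cfsg.Agent.Lib Cfsg.Agent.Lib.BitNet Cfsg.Agent.Lib.BitNetSimple Cfsg.Agent.SporadicB
  Cfsg.Agent.SporadicB.RuData Cfsg.Agent.SporadicB.RuOrder
open Cfsg.Agent.RuD.Letters Cfsg.Agent.RuD.Rels Cfsg.Agent.SporRec.TCUpperCert Cfsg.Agent.SporRec.R3.Kernel

theorem chk_words : chkRel words = true := by decide +kernel

/-- the letters satisfy the relations -/
theorem rels_model : RuRels T S W F D Y := (ruRels_iff T S W F D Y).2 (rel_of_chk chk_words)

theorem chk_wordXt : chkRel [wordXt] = true := by decide +kernel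

theorem relsX_model : RuRelsX T S W F D Y where
  toRuRels := rels_model
  xt := by
    rw [← wprod_wordXt]
    exact rel_of_chk chk_wordXt wordXt (by simp)

theorem closure_model : Subgroup.closure ({T, S, W, F, D, Y} : Set RuOrder.H) = ⊤ := by
  rw [eq_top_iff, ← closure_ml, Subgroup.closure_le]
  have h : ∀ x ∈ ({T, S, W, F, D, Y} : Set RuOrder.H), x ∈ Subgroup.closure ({T, S, W, F, D, Y} : Set RuOrder.H) :=
    fun x hx => Subgroup.subset_closure hx
  intro x hx
  simp only [ml, List.mem_cons, List.not_mem_nil, or_false, Set.mem_ofPred_eq] at hx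
  rcases hx with rfl | rfl | rfl | rfl | rfl | rfl | rfl | rfl | rfl
  · exact h _ (by simp)
  · exact h _ (by simp)
  · exact h _ (by simp)
  · exact h _ (by simp)
  · exact h _ (by simp)
  · exact h _ (by simp)
  · exact inv_mem (h _ (by simp))
  · exact inv_mem (h _ (by simp))
  · exact inv_mem (h _ (by simp))

/-! ### concatenated networks -/

/-- the network of a word -/
def catNet : List ℕ → List (ℕ × ℕ)
  | [] => []
  | a :: w => catNet w ++ NL.getD a []

theorem okNet_letter (a : ℕ) : OkNet 4060 (NL.getD a []) := by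
  rcases lt_or_ge a 9 with h | h
  · interval_cases a
    · exact okNet_sound okT
    · exact okNet_sound okS
    · exact okNet_sound okW
    · exact okNet_sound okF
    · exact okNet_sound okD
    · exact okNet_sound okY
    · exact okNet_reverse (okNet_sound okS)
    · exact okNet_reverse (okNet_sound okF)
    · exact okNet_reverse (okNet_sound okD)
  · rw [List.getD_eq_default _ _ (by exact h)]
    exact ⟨fun p hp => absurd hp (by simp), fun i => Iff.rfl⟩

theorem okNet_cat (w : List ℕ) : OkNet 4060 (catNet w) := by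
  induction w with
  | nil => exact ⟨fun p hp => absurd hp (by simp [catNet]), fun i => Iff.rfl⟩
  | cons a w ih => exact okNet_append ih (okNet_letter a)

theorem perm_cat (w : List ℕ) : perm (okNet_cat w) = (wprod ml w : RuOrder.H) := by
  apply Equiv.ext
  intro i
  apply Fin.ext
  rw [perm_apply]
  induction w with
  | nil => rfl
  | cons a w ih =>
    rw [catNet, app_append, ih, wprod_cons]
    exact (lv_apply a _).symm

/-! ### the centraliser of `s²` -/

/-- the centraliser of `s²`, as a permutation group -/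
def CZ : Subgroup (Equiv.Perm (Fin 4060)) := (Subgroup.centralizer {S * S}).map RuOrder.H.subtype

noncomputable def chkC (w : List ℕ) : Bool :=
  allL (fun b => Nat.beq (evalK (w ++ [1, 1]) b) (evalK (1 :: 1 :: w) b)) [0, 29, 580, 577]

theorem mem_of_chkC {w : List ℕ} (h : chkC w = true) : Mem CZ (catNet w) := by
  refine ⟨okNet_cat w, ?_⟩
  rw [perm_cat]
  refine ⟨wprod ml w, ?_, rfl⟩
  rw [SetLike.mem_coe, Subgroup.mem_centralizer_singleton_iff]
  have e1 : S * S * wprod ml w = wprod ml (1 :: 1 :: w) := by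
    rw [wprod_cons, wprod_cons, ← mul_assoc]; rfl
  have e2 : wprod ml w * (S * S) = wprod ml (w ++ [1, 1]) := by
    rw [wprod_append, wprod_cons, wprod_cons, wprod_nil, mul_one]; rfl
  rw [e1, e2]
  symm
  apply eq_of_base
  have h1 := (allL_iff _ _).1 h
  intro b hb
  rw [evalK_eq, evalK_eq]
  simp only [List.mem_cons, List.not_mem_nil, or_false] at hb
  rcases hb with rfl | rfl | rfl | rfl
  · exact (Nat.eq_of_beq_eq_true (h1 0 (by simp))).symm
  · exact (Nat.eq_of_beq_eq_true (h1 29 (by simp))).symm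
  · exact (Nat.eq_of_beq_eq_true (h1 580 (by simp))).symm
  · exact (Nat.eq_of_beq_eq_true (h1 577 (by simp))).symm

/-- generators -/
def gens0 : List (List ℕ) := [[0], [1], [4], [5], [7, 1, 3], [3, 5, 3, 1, 7, 0, 5, 4, 3, 4]]
def gens1 : List (List ℕ) := [[8, 5, 7, 1, 3, 1], [1, 4, 7, 6, 3, 4, 3, 5, 3, 1, 7, 0, 5, 4, 3, 4]]

theorem chk0 : allL chkC gens0 = true := by decide +kernel
theorem chk1 : allL (fun w => Bool.rec false (chkC w) (Nat.beq (evalK w 0) 0)) gens1 = true := by decide +kernel

theorem orb0 : Nat.ble 2048 (popc 12 (iterF (gens0.map catNet) 4 (Nat.pow 2 0))) = true := by decide +kernel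
theorem orb1 : Nat.ble 120 (popc 12 (iterF (gens1.map catNet) 8 (Nat.pow 2 2))) = true := by decide +kernel

theorem card_CZ : 245760 ≤ Nat.card CZ := by
  have m0 : ∀ g ∈ gens0.map catNet, Mem CZ g := by
    intro g hg
    obtain ⟨w, hw, rfl⟩ := List.mem_map.1 hg
    exact mem_of_chkC ((allL_iff _ _).1 chk0 w hw)
  have m1 : ∀ g ∈ gens1.map catNet, Mem (CZ ⊓ MulAction.stabilizer (Equiv.Perm (Fin 4060)) b1) g := by
    intro g hg
    obtain ⟨w, hw, rfl⟩ := List.mem_map.1 hg
    have h := (allL_iff _ _).1 chk1 w hw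
    rw [and3, Bool.and_eq_true] at h
    refine mem_inf_stabilizer (mem_of_chkC h.2) ?_
    have e := evalK_eq w b1
    rw [← perm_cat, perm_apply] at e
    rw [e]
    exact Nat.eq_of_beq_eq_true h.1
  have l0 := lower_step' (L := 12) (k := 4) (K := CZ) (b := b1) m0 orb0
  have l1 := lower_step' (L := 12) (k := 8) (b := (⟨2, by norm_num⟩ : Fin 4060)) m1 orb1
  have l2 : 1 ≤ Nat.card ↥(CZ ⊓ MulAction.stabilizer (Equiv.Perm (Fin 4060)) b1 ⊓
    MulAction.stabilizer (Equiv.Perm (Fin 4060)) (⟨2, by norm_num⟩ : Fin 4060)) := Nat.card_pos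
  have l3 : 120 * 1 ≤ Nat.card ↥(CZ ⊓ MulAction.stabilizer (Equiv.Perm (Fin 4060)) b1) :=
    le_trans (Nat.mul_le_mul_left _ l2) l1
  calc 245760 = 2048 * (120 * 1) := by norm_num
    _ ≤ _ := Nat.mul_le_mul_left _ l3
    _ ≤ _ := l0

/-- **the centraliser of `s²`** -/
theorem card_cent : 245760 ≤ Nat.card (Subgroup.centralizer {S * S} : Subgroup RuOrder.H) := by
  have e : Nat.card CZ = Nat.card (Subgroup.centralizer {S * S} : Subgroup RuOrder.H) :=
    Nat.card_congr ((Subgroup.centralizer {S * S}).equivMapOfInjective RuOrder.H.subtype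
      (Subgroup.subtype_injective _)).toEquiv.symm
  rw [← e]
  exact card_CZ

/-! ### identification -/

section ident

universe u

/-- the bound on the order of a group generated by letters satisfying the relations -/
def Bound : Prop := ∀ (K : Type u) [Group K] (t s w f d y : K), RuRelsX t s w f d y →
  Nat.card (Subgroup.closure ({t, s, w, f, d, y} : Set K)) ≠ 0 ∧
  Nat.card (Subgroup.closure ({t, s, w, f, d, y} : Set K)) ≤ 145926144000

variable {G : Type u} [Group G] {t s w f d y : G}

theorem prod_rels {M : Type*} [Group M] {t' s' w' f' d' y' : M} (h : RuRels t s w f d y)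
    (h' : RuRels t' s' w' f' d' y') :
    RuRels ((t, t') : G × M) (s, s') (w, w') (f, f') (d, d') (y, y') := by
  obtain ⟨h0, h1, h2, h3, h4, h5, h6, h7, h8, h9, h10, h11, h12, h13, h14, h15, h16, h17, h18, h19, h20, h21,
    h22⟩ := h
  obtain ⟨k0, k1, k2, k3, k4, k5, k6, k7, k8, k9, k10, k11, k12, k13, k14, k15, k16, k17, k18, k19, k20, k21,
    k22⟩ := h'
  exact ⟨Prod.ext h0 k0, Prod.ext h1 k1, Prod.ext h2 k2, Prod.ext h3 k3, Prod.ext h4 k4, Prod.ext h5 k5,
    Prod.ext h6 k6, Prod.ext h7 k7, Prod.ext h8 k8, Prod.ext h9 k9, Prod.ext h10 k10, Prod.ext h11 k11,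
    Prod.ext h12 k12, Prod.ext h13 k13, Prod.ext h14 k14, Prod.ext h15 k15, Prod.ext h16 k16, Prod.ext h17 k17,
    Prod.ext h18 k18, Prod.ext h19 k19, Prod.ext h20 k20, Prod.ext h21 k21, Prod.ext h22 k22⟩

theorem prod_relsX {M : Type*} [Group M] {t' s' w' f' d' y' : M} (h : RuRelsX t s w f d y)
    (h' : RuRelsX t' s' w' f' d' y') :
    RuRelsX ((t, t') : G × M) (s, s') (w, w') (f, f') (d, d') (y, y') :=
  { toRuRels := prod_rels h.toRuRels h'.toRuRels
    xt := Prod.ext h.xt h'.xt }

/-- **identification**: the letters generate the Rudvalis group -/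
theorem ident (B : Bound.{u}) (h : RuRelsX t s w f d y) (ht : t ≠ 1) :
    ∃ φ : Subgroup.closure ({t, s, w, f, d, y} : Set G) ≃* RuOrder.H,
      φ ⟨t, Subgroup.subset_closure (by simp)⟩ = T ∧ φ ⟨s, Subgroup.subset_closure (by simp)⟩ = S ∧
      φ ⟨w, Subgroup.subset_closure (by simp)⟩ = W ∧ φ ⟨f, Subgroup.subset_closure (by simp)⟩ = F ∧
      φ ⟨d, Subgroup.subset_closure (by simp)⟩ = D ∧ φ ⟨y, Subgroup.subset_closure (by simp)⟩ = Y := by
  have : Finite RuOrder.H := Nat.finite_of_card_ne_zero (by rw [card_H]; norm_num)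
  have := RuSimple.isSimpleGroup_H
  have hb := B (G × RuOrder.H) _ _ _ _ _ _ (prod_relsX h relsX_model)
  have e1 : Prod.fst '' ({(t, T), (s, S), (w, W), (f, F), (d, D), (y, Y)} : Set (G × RuOrder.H)) =
      {t, s, w, f, d, y} := by
    simp only [Set.image_insert_eq, Set.image_singleton]
  have e2 : Prod.snd '' ({(t, T), (s, S), (w, W), (f, F), (d, D), (y, Y)} : Set (G × RuOrder.H)) =
      {T, S, W, F, D, Y} := by
    simp only [Set.image_insert_eq, Set.image_singleton]
  obtain ⟨φ, hφ⟩ := Close.exists_iso_set ({(t, T), (s, S), (w, W), (f, F), (d, D), (y, Y)} : Set (G × RuOrder.H))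
    (by rw [e2]; exact closure_model) hb.1 (by rw [card_H]; exact hb.2) ⟨(t, T), by simp, ht⟩
  refine ⟨(MulEquiv.subgroupCongr (by rw [e1])).trans φ, ?_, ?_, ?_, ?_, ?_, ?_⟩
  · exact hφ (t, T) (by simp)
  · exact hφ (s, S) (by simp)
  · exact hφ (w, W) (by simp)
  · exact hφ (f, F) (by simp)
  · exact hφ (d, D) (by simp)
  · exact hφ (y, Y) (by simp)

/-- the group generated by the letters is the Rudvalis group -/
theorem isoRu (B : Bound.{u}) (h : RuRelsX t s w f d y) (ht : t ≠ 1) :
    Cfsg.Spor.IsoRu (Subgroup.closure ({t, s, w, f, d, y} : Set G)) := by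
  obtain ⟨φ, _⟩ := ident B h ht
  exact ⟨φ.trans Cfsg.Agent.RuLat.Main.equiv.symm⟩

theorem cent_le_of_iso (K : Subgroup G) (φ : K ≃* RuOrder.H) (hsK : s ∈ K) (hs : φ ⟨s, hsK⟩ = S)
    (h0 : Nat.card (Subgroup.centralizer ({s * s} : Set G)) ≠ 0)
    (hc : Nat.card (Subgroup.centralizer ({s * s} : Set G)) ≤ 245760) :
    Subgroup.centralizer ({s * s} : Set G) ≤ K := by
  have : Finite (Subgroup.centralizer ({s * s} : Set G)) := Nat.finite_of_card_ne_zero h0
  have e : φ.symm (S * S) = (⟨s, hsK⟩ : K) * ⟨s, hsK⟩ := by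
    rw [← hs, ← map_mul, MulEquiv.symm_apply_apply]
  -- the map from the centraliser in the model
  let ψ : (Subgroup.centralizer {S * S} : Subgroup RuOrder.H) →
      ((Subgroup.centralizer ({s * s} : Set G)) ⊓ K : Subgroup G) := fun x =>
    ⟨(φ.symm x.1 : G), by
      refine ⟨Subgroup.mem_centralizer_singleton_iff.2 ?_, (φ.symm x.1).2⟩
      have h1 := congrArg φ.symm (Subgroup.mem_centralizer_singleton_iff.1 x.2)
      rw [map_mul φ.symm, map_mul φ.symm _ x.1, e] at h1
      exact congrArg Subtype.val h1⟩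
  have hinj : Function.Injective ψ := by
    intro a b hab
    apply Subtype.ext
    apply φ.symm.injective
    apply Subtype.ext
    have h2 : (ψ a).1 = (ψ b).1 := by rw [hab]
    exact h2
  have hfin : Finite ((Subgroup.centralizer ({s * s} : Set G)) ⊓ K : Subgroup G) :=
    Finite.of_injective (Subgroup.inclusion (inf_le_left : (Subgroup.centralizer ({s * s} : Set G)) ⊓ K ≤ _))
      (Subgroup.inclusion_injective _)
  have hcard := Nat.card_le_card_of_injective ψ hinj
  have h1 := card_cent
  have e : (Subgroup.centralizer ({s * s} : Set G)) ⊓ K = Subgroup.centralizer ({s * s} : Set G) :=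
    Subgroup.eq_of_le_of_card_ge inf_le_left (by omega)
  rw [← e]
  exact inf_le_right

/-- `closure {t, s, w, f, d, y}` contains the centraliser of `s²` if this is not larger than expected -/
theorem cent_le (B : Bound.{u}) (h : RuRelsX t s w f d y) (ht : t ≠ 1)
    (h0 : Nat.card (Subgroup.centralizer ({s * s} : Set G)) ≠ 0)
    (hc : Nat.card (Subgroup.centralizer ({s * s} : Set G)) ≤ 245760) :
    Subgroup.centralizer ({s * s} : Set G) ≤ Subgroup.closure ({t, s, w, f, d, y} : Set G) := by
  obtain ⟨φ, _, hs, _⟩ := ident B h ht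
  exact cent_le_of_iso _ φ _ hs h0 hc

end ident

end Cfsg.Agent.RuD.Model
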