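import Cfsg.Agent.RuD.HBound
import Cfsg.Agent.RuD.Model

/-! The bound on the order from the bound on the index of `⟨t, s, w, f, d⟩`. -/

set_option autoImplicit false

namespace Cfsg.Agent.RuD.BoundOf

open Subgroup Cfsg.Agent.RuD.Rels

universe u

theorem bound_of_index (hi : ∀ (K : Type u) [Group K] (t s w f d y : K), RuRelsX t s w f d y →
    (closure ({t, s, w, f, d} : Set K)).relIndex (closure ({t, s, w, f, d, y} : Set K)) ≤ 417600 ∧
    (closure ({t, s, w, f, d} : Set K)).relIndex (closure ({t, s, w, f, d, y} : Set K)) ≠ 0) :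
    Model.Bound.{u} := by
  intro K _ t s w f d y h
  obtain ⟨h1, h2⟩ := hi K t s w f d y h
  obtain ⟨h3, h4⟩ := HBound.card_H h.toRuRels
  have hle : closure ({t, s, w, f, d} : Set K) ≤ closure ({t, s, w, f, d, y} : Set K) := closure_mono (by
    intro x hx; rcases hx with rfl | rfl | rfl | rfl | rfl <;> simp)
  have e := relIndex_mul_relIndex _ _ _ (bot_le : ⊥ ≤ closure ({t, s, w, f, d} : Set K)) hle
  rw [relIndex_bot_left, relIndex_bot_left] at e
  rw [← e]
  refine ⟨mul_ne_zero h4 h2, ?_⟩
  calc _ ≤ 349440 * 417600 := Nat.mul_le_mul h3 h1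
    _ = 145926144000 := by norm_num

end Cfsg.Agent.RuD.BoundOf
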