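import Cfsg.Agent.RuD.IdxDef

/-! Kernel checks of the rules for the letter `a` (generated). -/

set_option autoImplicit false
set_option maxRecDepth 100000

set_option Elab.async false

namespace Cfsg.Agent.RuD.IdxChkA

open Cfsg.Agent.Lib.PermNet Cfsg.Agent.RuD.IdxLib Cfsg.Agent.RuD.IdxDef

/-- rules, group 0 -/
def l0 : List (ℕ × ℕ × Bool) := [(6, 2, false), (6, 1, false), (32, 2, false), (11, 3, false), (29, 2, true), (42, 2, false), (14, 2, true), (10, 3, false), (13, 3, false), (50, 4, false)]

/-- rules, group 1 -/
def l1 : List (ℕ × ℕ × Bool) := [(58, 5, true), (64, 7, false), (58, 4, false), (50, 3, true), (64, 6, true), (12, 3, false)]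

theorem ok0 : l0.all (C.ruleOK .a) = true := by decide +kernel

theorem ok1 : l1.all (C.ruleOK .a) = true := by decide +kernel

theorem m0 : Nat.beq (Nat.land IdxMask.a0 (C.rMs .a l0)) IdxMask.a0 = true := by decide +kernel

/-- the justified masks -/
noncomputable def Ms : List ℕ := [base .a, IdxMask.a0, C.rMs .a l1]

theorem good : Good .a Ms := by
  unfold Ms
  exact .cons (jm_base _) (.cons (JM.mono m0 (JM.rules l0 ok0)) (.cons (JM.rules l1 ok1) (.nil _)))

theorem cov : full (orL Ms) = true := by decide +kernel

end Cfsg.Agent.RuD.IdxChkA
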