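import Cfsg.Agent.RuD.IdxDef

/-! Kernel checks of the rules for the letter `d` (generated). -/

set_option autoImplicit false
set_option maxRecDepth 100000

set_option Elab.async false

namespace Cfsg.Agent.RuD.IdxChkD

open Cfsg.Agent.Lib.PermNet Cfsg.Agent.RuD.IdxLib Cfsg.Agent.RuD.IdxDef

/-- rules, group 0 -/
def l0 : List (ℕ × ℕ × Bool) := [(8, 0, false), (18, 3, false), (34, 2, false), (26, 2, false), (68, 0, false), (14, 2, false), (14, 3, true), (19, 2, false), (27, 3, true)]

/-- rules, group 1 -/
def l1 : List (ℕ × ℕ × Bool) := [(27, 2, false), (53, 4, true), (57, 4, false), (56, 4, false), (53, 3, false), (60, 0, false)]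

/-- rules, group 2 -/
def l2 : List (ℕ × ℕ × Bool) := [(57, 5, true)]

theorem ok0 : l0.all (C.ruleOK .d) = true := by decide +kernel

theorem ok1 : l1.all (C.ruleOK .d) = true := by decide +kernel

theorem ok2 : l2.all (C.ruleOK .d) = true := by decide +kernel

theorem m0 : Nat.beq (Nat.land IdxMask.d0 (C.rMs .d l0)) IdxMask.d0 = true := by decide +kernel

theorem m1 : Nat.beq (Nat.land IdxMask.d1 (C.rMs .d l1)) IdxMask.d1 = true := by decide +kernel

/-- the justified masks -/
noncomputable def Ms : List ℕ := [base .d, IdxMask.d0, IdxMask.d1, C.rMs .d l2]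

theorem good : Good .d Ms := by
  unfold Ms
  exact .cons (jm_base _) (.cons (JM.mono m0 (JM.rules l0 ok0)) (.cons (JM.mono m1 (JM.rules l1 ok1)) (.cons (JM.rules l2 ok2) (.nil _))))

theorem cov : full (orL Ms) = true := by decide +kernel

end Cfsg.Agent.RuD.IdxChkD
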