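import Cfsg.Agent.RuD.IdxDef

/-! Kernel checks of the rules for the letter `e` (generated). -/

set_option autoImplicit false
set_option maxRecDepth 100000

set_option Elab.async false

namespace Cfsg.Agent.RuD.IdxChkE

open Cfsg.Agent.Lib.PermNet Cfsg.Agent.RuD.IdxLib Cfsg.Agent.RuD.IdxDef

/-- rules, group 0 -/
def l0 : List (ℕ × ℕ × Bool) := [(9, 0, false), (35, 0, false), (44, 0, false), (69, 0, false), (20, 3, false), (21, 1, false), (15, 0, false), (22, 1, false), (10, 0, false), (19, 3, false)]

/-- rules, group 1 -/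
def l1 : List (ℕ × ℕ × Bool) := [(19, 1, false), (15, 2, false), (10, 2, false), (52, 1, false), (50, 2, false), (57, 1, false), (54, 3, false)]

/-- rules, group 2 -/
def l2 : List (ℕ × ℕ × Bool) := [(59, 2, false), (62, 3, false), (28, 0, false), (28, 2, false)]

theorem ok0 : l0.all (C.ruleOK .e) = true := by decide +kernel

theorem ok1 : l1.all (C.ruleOK .e) = true := by decide +kernel

theorem ok2 : l2.all (C.ruleOK .e) = true := by decide +kernel

theorem m0 : Nat.beq (Nat.land IdxMask.e0 (C.rMs .e l0)) IdxMask.e0 = true := by decide +kernel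

theorem m1 : Nat.beq (Nat.land IdxMask.e1 (C.rMs .e l1)) IdxMask.e1 = true := by decide +kernel

/-- the justified masks -/
noncomputable def Ms : List ℕ := [base .e, IdxMask.e0, IdxMask.e1, C.rMs .e l2]

theorem good : Good .e Ms := by
  unfold Ms
  exact .cons (jm_base _) (.cons (JM.mono m0 (JM.rules l0 ok0)) (.cons (JM.mono m1 (JM.rules l1 ok1)) (.cons (JM.rules l2 ok2) (.nil _))))

theorem cov : (seqB (orL Ms) fun M => full (Nat.lor M ((net .e).app M))) = true := by decide +kernel

end Cfsg.Agent.RuD.IdxChkE
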