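import Cfsg.Agent.RuD.IdxDef

/-! Kernel checks of the rules for the letter `f` (generated). -/

set_option autoImplicit false
set_option maxRecDepth 100000

set_option Elab.async false

namespace Cfsg.Agent.RuD.IdxChkF

open Cfsg.Agent.Lib.PermNet Cfsg.Agent.RuD.IdxLib Cfsg.Agent.RuD.IdxDef

/-- rules, group 0 -/
def l0 : List (ℕ × ℕ × Bool) := [(23, 1, false), (36, 2, false), (20, 2, false), (24, 2, false), (45, 2, false), (29, 3, true), (11, 3, true), (29, 2, false), (11, 2, false)]

/-- rules, group 1 -/
def l1 : List (ℕ × ℕ × Bool) := [(52, 4, true), (56, 5, false), (56, 1, false), (62, 6, true), (56, 2, false)]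

/-- rules, group 2 -/
def l2 : List (ℕ × ℕ × Bool) := [(52, 3, false), (62, 5, false), (54, 2, false), (55, 0, false), (63, 0, false)]

/-- rules, group 3 -/
def l3 : List (ℕ × ℕ × Bool) := [(75, 6, true), (55, 1, true)]

theorem ok0 : l0.all (C.ruleOK .f) = true := by decide +kernel

theorem ok1 : l1.all (C.ruleOK .f) = true := by decide +kernel

theorem ok2 : l2.all (C.ruleOK .f) = true := by decide +kernel

theorem ok3 : l3.all (C.ruleOK .f) = true := by decide +kernel

theorem m0 : Nat.beq (Nat.land IdxMask.f0 (C.rMs .f l0)) IdxMask.f0 = true := by decide +kernel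

theorem m1 : Nat.beq (Nat.land IdxMask.f1 (C.rMs .f l1)) IdxMask.f1 = true := by decide +kernel

theorem m2 : Nat.beq (Nat.land IdxMask.f2 (C.rMs .f l2)) IdxMask.f2 = true := by decide +kernel

/-- the justified masks -/
noncomputable def Ms : List ℕ := [base .f, IdxMask.f0, IdxMask.f1, IdxMask.f2, C.rMs .f l3]

theorem good : Good .f Ms := by
  unfold Ms
  exact .cons (jm_base _) (.cons (JM.mono m0 (JM.rules l0 ok0)) (.cons (JM.mono m1 (JM.rules l1 ok1)) (.cons (JM.mono m2 (JM.rules l2 ok2)) (.cons (JM.rules l3 ok3) (.nil _)))))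

theorem cov : full (orL Ms) = true := by decide +kernel

end Cfsg.Agent.RuD.IdxChkF
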