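import Cfsg.Agent.RuD.IdxDef

/-! Kernel checks of the rules for the letter `h` (generated). -/

set_option autoImplicit false
set_option maxRecDepth 100000

set_option Elab.async false

namespace Cfsg.Agent.RuD.IdxChkH

open Cfsg.Agent.Lib.PermNet Cfsg.Agent.RuD.IdxLib Cfsg.Agent.RuD.IdxDef

/-- rules, group 0 -/
def l0 : List (ℕ × ℕ × Bool) := [(7, 0, false), (38, 0, false), (26, 3, false), (52, 4, false), (47, 0, false), (24, 1, false), (31, 0, false), (13, 0, false), (57, 3, false)]

/-- rules, group 1 -/
def l1 : List (ℕ × ℕ × Bool) := [(13, 2, false), (31, 2, false), (52, 2, false), (25, 0, false), (22, 0, false), (58, 3, false), (54, 0, false), (17, 0, false)]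

/-- rules, group 2 -/
def l2 : List (ℕ × ℕ × Bool) := [(17, 2, false), (62, 4, false)]

theorem ok0 : l0.all (C.ruleOK .h) = true := by decide +kernel

theorem ok1 : l1.all (C.ruleOK .h) = true := by decide +kernel

theorem ok2 : l2.all (C.ruleOK .h) = true := by decide +kernel

theorem m0 : Nat.beq (Nat.land IdxMask.h0 (C.rMs .h l0)) IdxMask.h0 = true := by decide +kernel

theorem m1 : Nat.beq (Nat.land IdxMask.h1 (C.rMs .h l1)) IdxMask.h1 = true := by decide +kernel

/-- the justified masks -/
noncomputable def Ms : List ℕ := [base .h, IdxMask.h0, IdxMask.h1, C.rMs .h l2]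

theorem good : Good .h Ms := by
  unfold Ms
  exact .cons (jm_base _) (.cons (JM.mono m0 (JM.rules l0 ok0)) (.cons (JM.mono m1 (JM.rules l1 ok1)) (.cons (JM.rules l2 ok2) (.nil _))))

theorem cov : (seqB (orL Ms) fun M => full (Nat.lor M ((net .h).app M))) = true := by decide +kernel

end Cfsg.Agent.RuD.IdxChkH
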