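import Cfsg.Agent.RuD.IdxDef

/-! Kernel checks of the rules for the letter `s` (generated). -/

set_option autoImplicit false
set_option maxRecDepth 100000

set_option Elab.async false

namespace Cfsg.Agent.RuD.IdxChkS

open Cfsg.Agent.Lib.PermNet Cfsg.Agent.RuD.IdxLib Cfsg.Agent.RuD.IdxDef

/-- rules, group 0 -/
def l0 : List (ℕ × ℕ × Bool) := [(9, 2, false), (9, 1, false), (39, 2, false), (48, 2, false), (70, 2, false), (29, 3, false), (30, 3, false), (27, 3, false), (27, 2, true), (31, 3, false)]

/-- rules, group 1 -/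
def l1 : List (ℕ × ℕ × Bool) := [(59, 5, false), (58, 5, false), (62, 5, true), (58, 4, true), (51, 2, true), (51, 3, true)]

/-- rules, group 2 -/
def l2 : List (ℕ × ℕ × Bool) := [(59, 4, true), (75, 8, false), (28, 3, false)]

theorem ok0 : l0.all (C.ruleOK .s) = true := by decide +kernel

theorem ok1 : l1.all (C.ruleOK .s) = true := by decide +kernel

theorem ok2 : l2.all (C.ruleOK .s) = true := by decide +kernel

theorem m0 : Nat.beq (Nat.land IdxMask.s0 (C.rMs .s l0)) IdxMask.s0 = true := by decide +kernel

theorem m1 : Nat.beq (Nat.land IdxMask.s1 (C.rMs .s l1)) IdxMask.s1 = true := by decide +kernel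

/-- the justified masks -/
noncomputable def Ms : List ℕ := [base .s, IdxMask.s0, IdxMask.s1, C.rMs .s l2]

theorem good : Good .s Ms := by
  unfold Ms
  exact .cons (jm_base _) (.cons (JM.mono m0 (JM.rules l0 ok0)) (.cons (JM.mono m1 (JM.rules l1 ok1)) (.cons (JM.rules l2 ok2) (.nil _))))

theorem cov : full (orL Ms) = true := by decide +kernel

end Cfsg.Agent.RuD.IdxChkS
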