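import Cfsg.Agent.RuD.IdxDef

/-! Kernel checks of the rules for the letter `y` (generated). -/

set_option autoImplicit false
set_option maxRecDepth 100000

set_option Elab.async false

namespace Cfsg.Agent.RuD.IdxChkY

open Cfsg.Agent.Lib.PermNet Cfsg.Agent.RuD.IdxLib Cfsg.Agent.RuD.IdxDef

/-- rules, group 0 -/
def l0 : List (ℕ × ℕ × Bool) := [(68, 1, false), (71, 1, false), (69, 1, false), (70, 3, false), (70, 1, false), (72, 0, false), (73, 4, false)]

/-- rules, group 1 -/
def l1 : List (ℕ × ℕ × Bool) := [(74, 6, false), (75, 6, false)]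

theorem ok0 : l0.all (C.ruleOK .y) = true := by decide +kernel

theorem ok1 : l1.all (C.ruleOK .y) = true := by decide +kernel

theorem m0 : Nat.beq (Nat.land IdxMask.y0 (C.rMs .y l0)) IdxMask.y0 = true := by decide +kernel

/-- the justified masks -/
noncomputable def Ms : List ℕ := [base .y, IdxMask.y0, C.rMs .y l1]

theorem good : Good .y Ms := by
  unfold Ms
  exact .cons (jm_base _) (.cons (JM.mono m0 (JM.rules l0 ok0)) (.cons (JM.rules l1 ok1) (.nil _)))

theorem cov : (seqB (orL Ms) fun M => full (Nat.lor M ((net .y).app M))) = true := by decide +kernel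

end Cfsg.Agent.RuD.IdxChkY
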