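import Cfsg.Agent.RuD.IdxPerm

/-! The networks of the letters `u, e, g, h, a, b`, and the ranges. -/

set_option autoImplicit false
set_option maxRecDepth 100000
set_option exponentiation.threshold 1000000
set_option Elab.async false

namespace Cfsg.Agent.RuD.IdxPermG

open Cfsg.Agent.Lib.PermNet Cfsg.Agent.RuD.IdxNet Cfsg.Agent.RuD.IdxNetW Cfsg.Agent.RuD.IdxNetY
  Cfsg.Agent.RuD.Rels Cfsg.Agent.RuD.IdxRel Cfsg.Agent.RuD.IdxPerm Cfsg.Agent.SporRec.TCUpperCert
  Cfsg.Agent.SporRec.CosetBulk

/-- the networks of the inverses of `t, s, w, f, d, y` and of `s, f, d, u, e, g, h, a, b, a⁻¹, b⁻¹` -/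
noncomputable def nl : List Net := [netT, netSi, netW, netFi, netDi, netY, netS, netF, netD, netU, netE, netG, netH,
  netA, netB, netAi, netBi]

theorem ok_nl : ∀ L ∈ nl, L.ok (2 ^ 19) = true := by
  intro L hL
  simp only [nl, List.mem_cons, List.not_mem_nil, or_false] at hL
  rcases hL with rfl | rfl | rfl | rfl | rfl | rfl | rfl | rfl | rfl | rfl | rfl | rfl | rfl | rfl | rfl | rfl | rfl
  · exact okT
  · exact okSi
  · exact okW
  · exact okFi
  · exact okDi
  · exact okY
  · exact okS
  · exact okF
  · exact okD
  · exact okU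
  · exact okE
  · exact okG
  · exact okH
  · exact okA
  · exact okB
  · exact okAi
  · exact okBi

/-- the networks of a word -/
noncomputable def nw (r : List ℕ) : List Net :=
  List.rec (motive := fun _ => List Net) [] (fun a _ ih => nl.getD a Net.nil :: ih) r

theorem ok_nw (r : List ℕ) (hr : ∀ a ∈ r, a < 17) : WOk (2 ^ 19) (nw r) := by
  induction r with
  | nil => exact WOk.nil _
  | cons a r ih =>
    refine WOk.cons (ok_nl _ ?_) (ih fun b hb => hr b (List.mem_cons_of_mem _ hb))
    have ha : a < nl.length := hr a (by simp)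
    rw [List.getD_eq_getElem _ _ ha]
    exact List.getElem_mem ha

/-- all words act trivially on the plane `b` -/
noncomputable def chkB (rs : List (List ℕ)) (b : ℕ) : Bool :=
  List.rec (motive := fun _ => Bool) true (fun r _ ih => and (checkPlane 19 (nw r) [] b) ih) rs

theorem of_chkB {rs : List (List ℕ)} {b : ℕ} (h : chkB rs b = true) : ∀ r ∈ rs, checkPlane 19 (nw r) [] b = true := by
  induction rs with
  | nil => simp
  | cons r rs ih =>
    have h' : and (checkPlane 19 (nw r) [] b) (chkB rs b) = true := h
    rw [Bool.and_eq_true] at h'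
    intro r' hr'
    rcases List.mem_cons.1 hr' with rfl | h2
    · exact h'.1
    · exact ih h'.2 r' h2

/-- the words which are checked -/
def ws : List (List ℕ) := [[9, 8, 0, 4], [10, 1, 1], [11, 7, 1, 1, 3], [12, 7, 7, 1, 1, 3, 3], [13, 7, 1, 3],
  [14, 7, 7, 1, 3, 3], [13, 15], [14, 16]]

theorem c0 : chkB ws 0 = true := by decide +kernel
theorem c1 : chkB ws 1 = true := by decide +kernel
theorem c2 : chkB ws 2 = true := by decide +kernel
theorem c3 : chkB ws 3 = true := by decide +kernel
theorem c4 : chkB ws 4 = true := by decide +kernel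
theorem c5 : chkB ws 5 = true := by decide +kernel
theorem c6 : chkB ws 6 = true := by decide +kernel
theorem c7 : chkB ws 7 = true := by decide +kernel
theorem c8 : chkB ws 8 = true := by decide +kernel
theorem c9 : chkB ws 9 = true := by decide +kernel
theorem c10 : chkB ws 10 = true := by decide +kernel
theorem c11 : chkB ws 11 = true := by decide +kernel
theorem c12 : chkB ws 12 = true := by decide +kernel
theorem c13 : chkB ws 13 = true := by decide +kernel
theorem c14 : chkB ws 14 = true := by decide +kernel
theorem c15 : chkB ws 15 = true := by decide +kernel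
theorem c16 : chkB ws 16 = true := by decide +kernel
theorem c17 : chkB ws 17 = true := by decide +kernel
theorem c18 : chkB ws 18 = true := by decide +kernel

theorem call : ∀ b < 19, chkB ws b = true := by
  intro b hb
  interval_cases b
  · exact c0
  · exact c1
  · exact c2
  · exact c3
  · exact c4
  · exact c5
  · exact c6
  · exact c7
  · exact c8
  · exact c9
  · exact c10
  · exact c11
  · exact c12
  · exact c13
  · exact c14
  · exact c15
  · exact c16
  · exact c17
  · exact c18

theorem lt17 : ∀ r ∈ ws, ∀ a ∈ r, a < 17 := by decide +kernel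

theorem ws_ok : ∀ r ∈ ws, wperm (nw r) = 1 := fun r hr =>
  wperm_eq_of_planes (ok_nw r (lt17 r hr)) (WOk.nil _) fun b hb => of_chkB (call b hb) r hr

theorem permU : netU.perm⁻¹ = netD.perm * netT.perm⁻¹ * netD.perm⁻¹ := by
  refine inv_eq_of_mul_eq_one_right ?_
  have h := ws_ok [9, 8, 0, 4] (by decide +kernel)
  rw [permT, permD, mul_assoc]
  exact h

theorem permE : netE.perm⁻¹ = netS.perm⁻¹ * netS.perm⁻¹ := by
  refine inv_eq_of_mul_eq_one_right ?_
  have h := ws_ok [10, 1, 1] (by decide +kernel)
  rw [permS]
  exact h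

theorem permG : netG.perm⁻¹ = netF.perm * netS.perm⁻¹ * netS.perm⁻¹ * netF.perm⁻¹ := by
  refine inv_eq_of_mul_eq_one_right ?_
  have h := ws_ok [11, 7, 1, 1, 3] (by decide +kernel)
  rw [permS, permF]
  simp only [mul_assoc]
  exact h

theorem permH : netH.perm⁻¹ = netF.perm * netF.perm * netS.perm⁻¹ * netS.perm⁻¹ * netF.perm⁻¹ * netF.perm⁻¹ := by
  refine inv_eq_of_mul_eq_one_right ?_
  have h := ws_ok [12, 7, 7, 1, 1, 3, 3] (by decide +kernel)
  rw [permS, permF]
  simp only [mul_assoc]
  exact h

theorem permA : netA.perm⁻¹ = netF.perm * netS.perm⁻¹ * netF.perm⁻¹ := by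
  refine inv_eq_of_mul_eq_one_right ?_
  have h := ws_ok [13, 7, 1, 3] (by decide +kernel)
  rw [permS, permF]
  simp only [mul_assoc]
  exact h

theorem permB : netB.perm⁻¹ = netF.perm * netF.perm * netS.perm⁻¹ * netF.perm⁻¹ * netF.perm⁻¹ := by
  refine inv_eq_of_mul_eq_one_right ?_
  have h := ws_ok [14, 7, 7, 1, 3, 3] (by decide +kernel)
  rw [permS, permF]
  simp only [mul_assoc]
  exact h

theorem permAi : netA.perm⁻¹ = netAi.perm := inv_eq_of_mul_eq_one_right (ws_ok [13, 15] (by decide +kernel))
theorem permBi : netB.perm⁻¹ = netBi.perm := inv_eq_of_mul_eq_one_right (ws_ok [14, 16] (by decide +kernel))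

/-- the letters of `IdxRel.gl` in the model on the cosets -/
theorem perm_gl : gl netT.perm⁻¹ netS.perm⁻¹ netW.perm⁻¹ netF.perm⁻¹ netD.perm⁻¹ netY.perm⁻¹ =
    [netT.perm⁻¹, netU.perm⁻¹, netS.perm⁻¹, netE.perm⁻¹, netG.perm⁻¹, netH.perm⁻¹, netA.perm⁻¹, netB.perm⁻¹,
      netF.perm⁻¹, netD.perm⁻¹, netW.perm⁻¹, netY.perm⁻¹, netS.perm, netA.perm, netB.perm, netF.perm, netD.perm] := by
  unfold gl
  simp only [inv_inv, ← permU, ← permE]
  have eA : netF.perm * netS.perm * netF.perm⁻¹ = netA.perm := by
    rw [← inv_inv netA.perm, permA]; group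
  have eB : netF.perm * netF.perm * netS.perm * netF.perm⁻¹ * netF.perm⁻¹ = netB.perm := by
    rw [← inv_inv netB.perm, permB]; simp only [mul_inv_rev, inv_inv, mul_assoc]
  rw [eA, eB, permG, permH, permA, permB, permE]

theorem rangeT : rangeCheck netT 417600 = true := by decide +kernel
theorem rangeU : rangeCheck netU 417600 = true := by decide +kernel
theorem rangeS : rangeCheck netS 417600 = true := by decide +kernel
theorem rangeSi : rangeCheck netSi 417600 = true := by decide +kernel
theorem rangeE : rangeCheck netE 417600 = true := by decide +kernel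
theorem rangeG : rangeCheck netG 417600 = true := by decide +kernel
theorem rangeH : rangeCheck netH 417600 = true := by decide +kernel
theorem rangeA : rangeCheck netA 417600 = true := by decide +kernel
theorem rangeAi : rangeCheck netAi 417600 = true := by decide +kernel
theorem rangeB : rangeCheck netB 417600 = true := by decide +kernel
theorem rangeBi : rangeCheck netBi 417600 = true := by decide +kernel
theorem rangeF : rangeCheck netF 417600 = true := by decide +kernel
theorem rangeFi : rangeCheck netFi 417600 = true := by decide +kernel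
theorem rangeD : rangeCheck netD 417600 = true := by decide +kernel
theorem rangeDi : rangeCheck netDi 417600 = true := by decide +kernel
theorem rangeW : rangeCheck netW 417600 = true := by decide +kernel
theorem rangeY : rangeCheck netY 417600 = true := by decide +kernel

end Cfsg.Agent.RuD.IdxPermG
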