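import Cfsg.Agent.RuD.IdxRelX
import Cfsg.Agent.RuD.IdxPermG
import Cfsg.Agent.RuD.IdxChkT
import Cfsg.Agent.RuD.IdxChkU
import Cfsg.Agent.RuD.IdxChkS
import Cfsg.Agent.RuD.IdxChkE
import Cfsg.Agent.RuD.IdxChkG
import Cfsg.Agent.RuD.IdxChkH
import Cfsg.Agent.RuD.IdxChkA
import Cfsg.Agent.RuD.IdxChkB
import Cfsg.Agent.RuD.IdxChkF
import Cfsg.Agent.RuD.IdxChkD
import Cfsg.Agent.RuD.IdxChkW
import Cfsg.Agent.RuD.IdxChkY
import Cfsg.Agent.RuD.BoundOf

/-!
# The index of `⟨t, s, w, f, d⟩` is at most 417600, and the bound on the order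
-/

set_option autoImplicit false
set_option maxRecDepth 100000
set_option linter.constructorNameAsVariable false
set_option Elab.async false

namespace Cfsg.Agent.RuD.IdxFin

open Cfsg.Agent.Lib.PermNet Cfsg.Agent.RuD.IdxNet Cfsg.Agent.RuD.IdxNetW Cfsg.Agent.RuD.IdxNetY
  Cfsg.Agent.RuD.Rels Cfsg.Agent.RuD.IdxLib Cfsg.Agent.RuD.IdxDef Cfsg.Agent.RuD.IdxRelX
  Cfsg.Agent.RuD.IdxPerm Cfsg.Agent.RuD.IdxPermG Cfsg.Agent.SporRec.CosetBulk
  Cfsg.Agent.SporRec.TCUpperCert

theorem ok_net (a : Lt) : (net a).ok 524288 = true := by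
  cases a
  · exact okT
  · exact okU
  · exact okS
  · exact okE
  · exact okG
  · exact okH
  · exact okA
  · exact okB
  · exact okF
  · exact okD
  · exact okW
  · exact okY

theorem dom_net (a : Lt) : rangeCheck (net a) 417600 = true := by
  cases a
  · exact rangeT
  · exact rangeU
  · exact rangeS
  · exact rangeE
  · exact rangeG
  · exact rangeH
  · exact rangeA
  · exact rangeB
  · exact rangeF
  · exact rangeD
  · exact rangeW
  · exact rangeY

/-- the permutations of the networks are the inverses of the letters of `gl` -/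
theorem perm_eq (a : Lt) : (net a).perm =
    xg netT.perm⁻¹ netS.perm⁻¹ netW.perm⁻¹ netF.perm⁻¹ netD.perm⁻¹ netY.perm⁻¹ a := by
  unfold xg
  rw [perm_gl]
  cases a <;> simp [lv, Lt.code, net]

theorem p_eq : C.S.p = xg netT.perm⁻¹ netS.perm⁻¹ netW.perm⁻¹ netF.perm⁻¹ netD.perm⁻¹ netY.perm⁻¹ :=
  funext perm_eq

theorem prel : ∀ r ∈ C.rels, ev C.S.p r = 1 := by
  rw [p_eq]
  exact ev_rels perm_rels

theorem sym_t : mapApp (net .t) (lev .t) = lev .t := by decide +kernel
theorem sym_u : mapApp (net .u) (lev .u) = lev .u := by decide +kernel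
theorem sym_e : mapApp (net .e) (lev .e) = lev .e := by decide +kernel
theorem sym_g : mapApp (net .g) (lev .g) = lev .g := by decide +kernel
theorem sym_h : mapApp (net .h) (lev .h) = lev .h := by decide +kernel
theorem sym_w : mapApp (net .w) (lev .w) = lev .w := by decide +kernel
theorem sym_y : mapApp (net .y) (lev .y) = lev .y := by decide +kernel

theorem sym (a : Lt) (h : C.isInv a = true) : mapApp (C.S.net a) (C.S.lev a) = C.S.lev a := by
  revert h
  cases a <;> intro h
  · exact sym_t
  · exact sym_u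
  · exact absurd h (by decide)
  · exact sym_e
  · exact sym_g
  · exact sym_h
  · exact absurd h (by decide)
  · exact absurd h (by decide)
  · exact absurd h (by decide)
  · exact absurd h (by decide)
  · exact sym_w
  · exact sym_y

theorem treeF_chk (a : Lt) : treeCheck (net a) IdxTree.rk (treeF a) = true := by
  cases a <;> decide +kernel

theorem treeB_chk (a : Lt) : treeCheck (rev (net a)) IdxTree.rk (treeB a) = true := by
  cases a <;> decide +kernel

theorem tree (c : Lt × Bool) : treeCheck (C.dnet c) C.rk (C.P c) = true := by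
  obtain ⟨a, b⟩ := c
  cases b
  · exact treeB_chk a
  · exact treeF_chk a

theorem root_F (a : Lt) : tb (treeF a) 412160 = false := by cases a <;> decide +kernel
theorem root_B (a : Lt) : tb (treeB a) 412160 = false := by cases a <;> decide +kernel

theorem proot (c : Lt × Bool) : (C.P c).testBit C.root = false := by
  obtain ⟨a, b⟩ := c
  rw [← tb_eq]
  cases b
  · exact root_B a
  · exact root_F a

/-- pairwise disjoint masks: kernel check -/
noncomputable def disjL (l : List ℕ) : ℕ → Bool :=
  List.rec (motive := fun _ => ℕ → Bool) (fun _ => true)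
    (fun p _ ih acc => and (Nat.beq (Nat.land p acc) 0) (seqB (Nat.lor p acc) ih)) l

theorem disjL_spec (l : List ℕ) (acc : ℕ) (h : disjL l acc = true) :
    (∀ p ∈ l, p &&& acc = 0) ∧ l.Pairwise (fun p q => p &&& q = 0) := by
  induction l generalizing acc with
  | nil => exact ⟨by simp, List.Pairwise.nil⟩
  | cons p l ih =>
    have h' : (Nat.beq (Nat.land p acc) 0 && seqB (Nat.lor p acc) (disjL l)) = true := h
    rw [Bool.and_eq_true, seqB_eq] at h'
    obtain ⟨h1, h2⟩ := h'
    obtain ⟨h3, h4⟩ := ih _ h2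
    have h1' : p &&& acc = 0 := Nat.eq_of_beq_eq_true h1
    have h3' : ∀ q ∈ l, q &&& p = 0 ∧ q &&& acc = 0 := by
      intro q hq
      have h5 : q &&& (p ||| acc) = 0 := h3 q hq
      rw [Nat.and_or_distrib_left, Nat.or_eq_zero_iff] at h5
      exact h5
    refine ⟨?_, List.pairwise_cons.2 ⟨?_, h4⟩⟩
    · intro q hq
      rcases List.mem_cons.1 hq with rfl | hq
      · exact h1'
      · exact (h3' q hq).2
    · intro q hq
      rw [Nat.and_comm]
      exact (h3' q hq).1

/-- all directed letters -/
def dl : List (Lt × Bool) :=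
  [(.t, true), (.u, true), (.s, true), (.e, true), (.g, true), (.h, true), (.a, true), (.b, true), (.f, true),
    (.d, true), (.w, true), (.y, true), (.t, false), (.u, false), (.s, false), (.e, false), (.g, false),
    (.h, false), (.a, false), (.b, false), (.f, false), (.d, false), (.w, false), (.y, false)]

theorem mem_dl (c : Lt × Bool) : c ∈ dl := by
  obtain ⟨a, b⟩ := c
  cases a <;> cases b <;> decide

theorem chk_disj : disjL (dl.map C.P) 0 = true := by decide +kernel

theorem disj (c c' : Lt × Bool) (i : ℕ) (h : (C.P c).testBit i = true) (h' : (C.P c').testBit i = true) :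
    c = c' := by
  by_contra hab
  have h1 := (disjL_spec _ _ chk_disj).2
  rw [List.pairwise_map] at h1
  have h2 : C.P c &&& C.P c' = 0 := by
    have : Std.Symm (fun x y : Lt × Bool => C.P x &&& C.P y = 0) :=
      ⟨fun x y hxy => by rw [Nat.and_comm]; exact hxy⟩
    exact h1.forall (mem_dl c) (mem_dl c') hab
  have h3 := congrArg (fun x => Nat.testBit x i) h2
  simp only [Nat.testBit_and, h, h', Nat.zero_testBit] at h3
  exact absurd h3 (by simp)

theorem fix_pt (a : Lt) (h : inH a = true) : Nat.beq ((net a).pt 412160) 412160 = true := by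
  revert h
  cases a <;> decide +kernel

theorem fix (a : Lt) (h : C.inH a = true) : C.S.p a C.root = C.root := by
  have h1 := Nat.eq_of_beq_eq_true (fix_pt a h)
  rw [Net.pt_eq (ok_net a)] at h1
  exact h1

theorem full_spec {n M : ℕ}
    (h : (seqB (Nat.sub (Nat.pow 2 n) 1) fun U => Nat.beq (Nat.land M U) U) = true) :
    ∀ i < n, M.testBit i = true := by
  rw [seqB_eq] at h
  intro i hi
  have h1 : Nat.land M (2 ^ n - 1) = 2 ^ n - 1 := Nat.eq_of_beq_eq_true h
  have h2 : (2 ^ n - 1).testBit i = true := by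
    rw [Nat.testBit_two_pow_sub_one]; simpa using hi
  rw [← h1, testBit_land', Bool.and_eq_true] at h2
  exact h2.1

theorem full_spec' {M : ℕ} (h : full M = true) : ∀ i < 417600, M.testBit i = true := by
  unfold full at h
  revert h
  generalize (417600 : ℕ) = n
  exact full_spec

theorem cov_of {a : Lt} {l : List ℕ} (hg : Good a l) (hc : full (orL l) = true) :
    ∃ M, JM C a M ∧ ∀ i < C.n, M.testBit i = true :=
  ⟨_, hg.orL, full_spec' hc⟩

theorem cov_of_inv {a : Lt} {l : List ℕ} (hi : C.isInv a = true) (hg : Good a l)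
    (hc : (seqB (orL l) fun M => full (Nat.lor M ((net a).app M))) = true) :
    ∃ M, JM C a M ∧ ∀ i < C.n, M.testBit i = true := by
  rw [seqB_eq] at hc
  exact ⟨_, JM.or hg.orL (JM.symm hi hg.orL), full_spec' hc⟩

theorem cover (a : Lt) : ∃ M, JM C a M ∧ ∀ i < C.n, M.testBit i = true := by
  cases a
  · exact cov_of_inv rfl IdxChkT.good IdxChkT.cov
  · exact cov_of_inv rfl IdxChkU.good IdxChkU.cov
  · exact cov_of IdxChkS.good IdxChkS.cov
  · exact cov_of_inv rfl IdxChkE.good IdxChkE.cov
  · exact cov_of_inv rfl IdxChkG.good IdxChkG.cov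
  · exact cov_of_inv rfl IdxChkH.good IdxChkH.cov
  · exact cov_of IdxChkA.good IdxChkA.cov
  · exact cov_of IdxChkB.good IdxChkB.cov
  · exact cov_of IdxChkF.good IdxChkF.cov
  · exact cov_of IdxChkD.good IdxChkD.cov
  · exact cov_of_inv rfl IdxChkW.good IdxChkW.cov
  · exact cov_of_inv rfl IdxChkY.good IdxChkY.cov

theorem valid : C.Valid where
  ok := ok_net
  dom := dom_net
  prel := prel
  inv := sq_mem_rels
  sym := sym
  tree := tree
  disj := disj
  proot := proot
  fix := fix
  cover := cover

theorem index_le {K : Type*} [Group K] {t s w f d y : K} (h : RuRelsX t s w f d y) :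
    (Subgroup.closure ({t, s, w, f, d} : Set K)).relIndex (Subgroup.closure ({t, s, w, f, d, y} : Set K)) ≤ 417600 ∧
    (Subgroup.closure ({t, s, w, f, d} : Set K)).relIndex (Subgroup.closure ({t, s, w, f, d, y} : Set K)) ≠ 0 := by
  have h1 := valid.relIndex_le (by decide : (412160 : ℕ) < 417600) (xg t s w f d y) (ev_rels h)
    (Subgroup.closure ({t, s, w, f, d} : Set K)) (fun a ha => xg_mem_H t s w f d y a ha)
  rw [closure_xg] at h1
  exact h1

universe u

/-- the bound on the order -/
theorem bound : Model.Bound.{u} :=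
  BoundOf.bound_of_index fun _ _ _ _ _ _ _ _ h => index_le h

end Cfsg.Agent.RuD.IdxFin
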