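import Cfsg.Agent.RuD.Model
import Cfsg.Agent.RuD.HBound

/-! Words in `t, s, w, f, d`: a word which is trivial in the model `⟨T, S, W, F, D⟩ ≤ RuOrder.H` (checked by the kernel
at the four base points) is trivial in every group with elements satisfying `RuRels`. -/

set_option autoImplicit false
set_option maxRecDepth 100000
set_option exponentiation.threshold 5000

namespace Cfsg.Agent.RuD.HWord

open Cfsg.Agent.Lib Cfsg.Agent.Lib.BitNet Cfsg.Agent.Lib.BitNetSimple Cfsg.Agent.SporadicB
  Cfsg.Agent.SporadicB.RuData Cfsg.Agent.SporadicB.RuOrder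
open Cfsg.Agent.RuD.Letters Cfsg.Agent.RuD.Rels Cfsg.Agent.RuD.Model Cfsg.Agent.SporRec.TCUpperCert
  Cfsg.Agent.SporRec.R3.Kernel

/-! ### the order of `⟨T, S, W, F, D⟩` -/

/-- `⟨T, S, W, F, D⟩` as a permutation group -/
def HH : Subgroup (Equiv.Perm (Fin 4060)) := (Subgroup.closure {T, S, W, F, D}).map RuOrder.H.subtype

/-- no letter is `y` -/
noncomputable def noY (v : List ℕ) : Bool := allL (fun a => Bool.rec true false (Nat.beq a 5)) v

theorem ne_of_noY {v : List ℕ} (h : noY v = true) : ∀ a ∈ v, a ≠ 5 := by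
  intro a ha e
  have h1 := (allL_iff _ _).1 h a ha
  subst e
  exact absurd h1 (by decide)

theorem lv_mem {a : ℕ} (h : a ≠ 5) : lv ml a ∈ Subgroup.closure ({T, S, W, F, D} : Set RuOrder.H) := by
  have hh : ∀ x ∈ ({T, S, W, F, D} : Set RuOrder.H), x ∈ Subgroup.closure ({T, S, W, F, D} : Set RuOrder.H) :=
    fun x hx => Subgroup.subset_closure hx
  rcases lt_or_ge a 9 with h9 | h9
  · interval_cases a
    · exact hh T (by simp)
    · exact hh S (by simp)
    · exact hh W (by simp)
    · exact hh F (by simp)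
    · exact hh D (by simp)
    · exact absurd rfl h
    · exact inv_mem (hh S (by simp))
    · exact inv_mem (hh F (by simp))
    · exact inv_mem (hh D (by simp))
  · rw [lv_of_ge ml a h9]; exact one_mem _

theorem wprod_mem {v : List ℕ} (h : ∀ a ∈ v, a ≠ 5) :
    wprod ml v ∈ Subgroup.closure ({T, S, W, F, D} : Set RuOrder.H) := by
  induction v with
  | nil => exact one_mem _
  | cons a v ih =>
    rw [wprod_cons]
    exact mul_mem (lv_mem (h a (by simp))) (ih fun b hb => h b (List.mem_cons_of_mem _ hb))

theorem mem_HH {v : List ℕ} (h : noY v = true) : Mem HH (catNet v) :=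
  ⟨okNet_cat v, by rw [perm_cat]; exact ⟨wprod ml v, wprod_mem (ne_of_noY h), rfl⟩⟩

def hgens0 : List (List ℕ) := [[0], [1], [2], [3], [4]]
def hgens1 : List (List ℕ) := [[2, 3, 3, 3], [0, 6, 3, 1, 1, 3, 8], [1, 1, 8, 3, 6, 2, 1]]

theorem hchk0 : allL noY hgens0 = true := by decide +kernel
theorem hchk1 : allL (fun w => Bool.rec false (noY w) (Nat.beq (evalK w 0) 0)) hgens1 = true := by decide +kernel

theorem horb0 : Nat.ble 1820 (popc 12 (iterF (hgens0.map catNet) 10 (Nat.pow 2 0))) = true := by decide +kernel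
theorem horb1 : Nat.ble 192 (popc 12 (iterF (hgens1.map catNet) 12 (Nat.pow 2 2))) = true := by decide +kernel

theorem card_HH : 349440 ≤ Nat.card HH := by
  have m0 : ∀ g ∈ hgens0.map catNet, Mem HH g := by
    intro g hg
    obtain ⟨w, hw, rfl⟩ := List.mem_map.1 hg
    exact mem_HH ((allL_iff _ _).1 hchk0 w hw)
  have m1 : ∀ g ∈ hgens1.map catNet, Mem (HH ⊓ MulAction.stabilizer (Equiv.Perm (Fin 4060)) b1) g := by
    intro g hg
    obtain ⟨w, hw, rfl⟩ := List.mem_map.1 hg
    have h := (allL_iff _ _).1 hchk1 w hw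
    rw [and3, Bool.and_eq_true] at h
    refine mem_inf_stabilizer (mem_HH h.2) ?_
    have e := evalK_eq w b1
    rw [← perm_cat, perm_apply] at e
    rw [e]
    exact Nat.eq_of_beq_eq_true h.1
  have l0 := lower_step' (L := 12) (k := 10) (K := HH) (b := b1) m0 horb0
  have l1 := lower_step' (L := 12) (k := 12) (b := (⟨2, by norm_num⟩ : Fin 4060)) m1 horb1
  have l2 : 1 ≤ Nat.card ↥(HH ⊓ MulAction.stabilizer (Equiv.Perm (Fin 4060)) b1 ⊓
    MulAction.stabilizer (Equiv.Perm (Fin 4060)) (⟨2, by norm_num⟩ : Fin 4060)) := Nat.card_pos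
  have l3 : 192 * 1 ≤ Nat.card ↥(HH ⊓ MulAction.stabilizer (Equiv.Perm (Fin 4060)) b1) :=
    le_trans (Nat.mul_le_mul_left _ l2) l1
  calc 349440 = 1820 * (192 * 1) := by norm_num
    _ ≤ _ := Nat.mul_le_mul_left _ l3
    _ ≤ _ := l0

theorem card_closure : 349440 ≤ Nat.card (Subgroup.closure ({T, S, W, F, D} : Set RuOrder.H)) := by
  have e : Nat.card HH = Nat.card (Subgroup.closure ({T, S, W, F, D} : Set RuOrder.H)) :=
    Nat.card_congr ((Subgroup.closure ({T, S, W, F, D} : Set RuOrder.H)).equivMapOfInjective RuOrder.H.subtype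
      (Subgroup.subtype_injective _)).toEquiv.symm
  rw [← e]
  exact card_HH

/-! ### transfer -/

variable {K : Type*} [Group K] {t s w f d y : K}

theorem lv_pair (a : ℕ) : lv (letters ((t, T) : K × RuOrder.H) (s, S) (w, W) (f, F) (d, D) (y, Y)) a =
    (lv (letters t s w f d y) a, lv ml a) := by
  rcases lt_or_ge a 9 with h9 | h9
  · interval_cases a <;> rfl
  · rw [lv_of_ge _ a (by exact h9), lv_of_ge _ a (by exact h9), lv_of_ge ml a (by exact h9)]; rfl

theorem wprod_pair (v : List ℕ) :
    wprod (letters ((t, T) : K × RuOrder.H) (s, S) (w, W) (f, F) (d, D) (y, Y)) v =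
    (wprod (letters t s w f d y) v, wprod ml v) := by
  induction v with
  | nil => rfl
  | cons a v ih => rw [wprod_cons, ih, lv_pair, wprod_cons, wprod_cons]; rfl

/-- **words in `t, s, w, f, d` are evaluated in the model** -/
theorem word_eq_one (h : RuRels t s w f d y) {v : List ℕ} (hv : ∀ a ∈ v, a ≠ 5) (hm : wprod ml v = 1) :
    wprod (letters t s w f d y) v = 1 := by
  set A : Set (K × RuOrder.H) := {(t, T), (s, S), (w, W), (f, F), (d, D)} with hA
  obtain ⟨hle, hne⟩ := HBound.card_H (prod_rels h rels_model)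
  rw [← hA] at hle hne
  have hfin : Finite (Subgroup.closure A) := Nat.finite_of_card_ne_zero hne
  let p2 : Subgroup.closure A →* RuOrder.H := (MonoidHom.snd K RuOrder.H).comp (Subgroup.closure A).subtype
  have hr2 : p2.range = Subgroup.closure ({T, S, W, F, D} : Set RuOrder.H) := by
    rw [MonoidHom.range_comp, Subgroup.range_subtype, MonoidHom.map_closure]
    congr 1
    rw [hA]
    change Prod.snd '' _ = _
    simp only [Set.image_insert_eq, Set.image_singleton]
  have hc := card_closure
  rw [← hr2] at hc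
  have hinj : Function.Injective p2 := by
    have hs : Function.Surjective p2.rangeRestrict := p2.rangeRestrict_surjective
    have hb : Function.Bijective p2.rangeRestrict := by
      rw [Nat.bijective_iff_surjective_and_card]
      exact ⟨hs, le_antisymm (le_trans hle hc) (Nat.card_le_card_of_surjective _ hs)⟩
    intro a b hab
    exact hb.1 (Subtype.ext hab)
  have hmem : wprod (letters ((t, T) : K × RuOrder.H) (s, S) (w, W) (f, F) (d, D) (y, Y)) v ∈
      Subgroup.closure A := by
    clear hm
    have hh : ∀ x ∈ A, x ∈ Subgroup.closure A := fun x hx => Subgroup.subset_closure hx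
    induction v with
    | nil => exact one_mem _
    | cons a v ih =>
      rw [wprod_cons]
      refine mul_mem ?_ (ih fun b hb => hv b (List.mem_cons_of_mem _ hb))
      have h5 := hv a (by simp)
      rcases lt_or_ge a 9 with h9 | h9
      · interval_cases a
        · exact hh (t, T) (by simp [hA])
        · exact hh (s, S) (by simp [hA])
        · exact hh (w, W) (by simp [hA])
        · exact hh (f, F) (by simp [hA])
        · exact hh (d, D) (by simp [hA])
        · exact absurd rfl h5
        · exact inv_mem (hh (s, S) (by simp [hA]))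
        · exact inv_mem (hh (f, F) (by simp [hA]))
        · exact inv_mem (hh (d, D) (by simp [hA]))
      · rw [lv_of_ge _ a (by exact h9)]; exact one_mem _
  have e : (⟨_, hmem⟩ : Subgroup.closure A) = 1 := by
    apply hinj
    rw [map_one]
    change (wprod (letters ((t, T) : K × RuOrder.H) (s, S) (w, W) (f, F) (d, D) (y, Y)) v).2 = 1
    rw [wprod_pair]
    exact hm
  have e2 := congrArg (fun x : Subgroup.closure A => (x : K × RuOrder.H).1) e
  change (wprod (letters ((t, T) : K × RuOrder.H) (s, S) (w, W) (f, F) (d, D) (y, Y)) v).1 = 1 at e2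
  rw [wprod_pair] at e2
  exact e2

/-- kernel check of a list of words in `t, s, w, f, d` -/
noncomputable def chkH (vs : List (List ℕ)) : Bool := allL (fun v => Bool.rec false (chkRel [v]) (noY v)) vs

theorem word_of_chk (h : RuRels t s w f d y) {vs : List (List ℕ)} (hc : chkH vs = true) :
    ∀ v ∈ vs, wprod (letters t s w f d y) v = 1 := by
  intro v hv
  have h1 := (allL_iff _ _).1 hc v hv
  rw [and3, Bool.and_eq_true] at h1
  exact word_eq_one h (ne_of_noY h1.1) (rel_of_chk h1.2 v (by simp))

end Cfsg.Agent.RuD.HWord
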