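import Cfsg.Agent.RuD.IdxLib
import Cfsg.Agent.RuD.IdxNet
import Cfsg.Agent.RuD.IdxNetW
import Cfsg.Agent.RuD.IdxNetY
import Cfsg.Agent.RuD.IdxTree
import Cfsg.Agent.RuD.IdxMask
import Cfsg.Agent.RuD.IdxLvT
import Cfsg.Agent.RuD.IdxLvU
import Cfsg.Agent.RuD.IdxLvS
import Cfsg.Agent.RuD.IdxLvE
import Cfsg.Agent.RuD.IdxLvG
import Cfsg.Agent.RuD.IdxLvH
import Cfsg.Agent.RuD.IdxLvA
import Cfsg.Agent.RuD.IdxLvB
import Cfsg.Agent.RuD.IdxLvF
import Cfsg.Agent.RuD.IdxLvD
import Cfsg.Agent.RuD.IdxLvW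
import Cfsg.Agent.RuD.IdxLvY

/-!
# The certificate of the coset enumeration of `Ru` over `⟨t, s, w, f, d⟩` (index 417600)

Letters `t, u, s, e, g, h, a, b, f, d, w, y` as in `IdxRel`.
-/

set_option autoImplicit false
set_option maxRecDepth 100000

namespace Cfsg.Agent.RuD.IdxDef

open Cfsg.Agent.Lib.PermNet Cfsg.Agent.RuD.IdxLib Cfsg.Agent.RuD.IdxNet

/-- the letters -/
inductive Lt | t | u | s | e | g | h | a | b | f | d | w | y
  deriving DecidableEq

/-- code of a letter in `IdxRel.gl` -/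
def Lt.code : Lt → ℕ
  | .t => 0
  | .u => 1
  | .s => 2
  | .e => 3
  | .g => 4
  | .h => 5
  | .a => 6
  | .b => 7
  | .f => 8
  | .d => 9
  | .w => 10
  | .y => 11

/-- directed letter of a code -/
def dec : ℕ → Lt × Bool
  | 0 => (.t, true)
  | 1 => (.u, true)
  | 2 => (.s, true)
  | 3 => (.e, true)
  | 4 => (.g, true)
  | 5 => (.h, true)
  | 6 => (.a, true)
  | 7 => (.b, true)
  | 8 => (.f, true)
  | 9 => (.d, true)
  | 10 => (.w, true)
  | 11 => (.y, true)
  | 12 => (.s, false)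
  | 13 => (.a, false)
  | 14 => (.b, false)
  | 15 => (.f, false)
  | _ => (.d, false)

/-- the relators in the codes of `IdxRel` -/
def relsC : List (List ℕ) := [
  [3, 3],
  [4, 4],
  [5, 5],
  [0, 0],
  [1, 1],
  [10, 10],
  [6, 6, 4],
  [7, 7, 5],
  [9, 9, 9],
  [2, 2, 3],
  [6, 3, 13, 3],
  [6, 8, 14, 15],
  [6, 4, 13, 4],
  [6, 5, 13, 5],
  [7, 9, 13, 16],
  [7, 3, 14, 3],
  [7, 4, 14, 4],
  [7, 5, 14, 5],
  [9, 10, 16, 10],
  [3, 9, 3, 16],
  [3, 8, 4, 15],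
  [3, 4, 3, 4],
  [3, 5, 3, 5],
  [8, 10, 8, 10],
  [4, 8, 5, 15],
  [4, 5, 4, 5],
  [5, 9, 4, 16],
  [2, 9, 12, 16],
  [2, 3, 12, 3],
  [2, 8, 13, 15],
  [2, 4, 12, 4],
  [2, 5, 12, 5],
  [0, 6, 0, 13],
  [0, 7, 0, 14],
  [0, 9, 1, 16],
  [0, 3, 0, 3],
  [0, 8, 0, 15],
  [0, 4, 0, 4],
  [0, 5, 0, 5],
  [0, 2, 0, 12],
  [0, 1, 0, 1],
  [0, 10, 0, 10],
  [1, 6, 1, 13],
  [1, 7, 1, 14],
  [1, 3, 1, 3],
  [1, 8, 1, 15],
  [1, 4, 1, 4],
  [1, 5, 1, 5],
  [1, 2, 1, 12],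
  [1, 10, 1, 10],
  [6, 7, 3, 13, 14],
  [4, 15, 12, 12, 8],
  [5, 8, 5, 3, 15],
  [1, 9, 1, 0, 16],
  [15, 15, 3, 8, 8, 5],
  [7, 15, 15, 12, 8, 8],
  [8, 9, 8, 8, 8, 16],
  [4, 9, 5, 4, 3, 16],
  [2, 6, 5, 4, 12, 13],
  [2, 7, 4, 3, 12, 14],
  [0, 9, 0, 9, 0, 9],
  [10, 2, 10, 12, 10, 3],
  [7, 8, 5, 3, 13, 12, 15],
  [8, 8, 8, 8, 8, 8, 8],
  [6, 9, 5, 4, 3, 14, 13, 16],
  [10, 2, 4, 10, 3, 13, 10, 15, 4, 3, 14],
  [10, 7, 3, 4, 10, 5, 4, 14, 10, 8, 4, 12],
  [11, 11],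
  [11, 9, 11, 9],
  [11, 3, 11, 3],
  [11, 2, 11, 12],
  [11, 10, 11, 10],
  [0, 11, 0, 11, 0, 11],
  [11, 0, 1, 11, 1, 11, 16, 1],
  [11, 4, 11, 0, 11, 4, 11, 0, 4],
  [8, 2, 15, 11, 8, 2, 15, 11, 8, 2, 15, 11, 2, 2]]

/-- the network of a letter -/
noncomputable def net : Lt → Net
  | .t => netT
  | .u => netU
  | .s => netS
  | .e => netE
  | .g => netG
  | .h => netH
  | .a => netA
  | .b => netB
  | .f => netF
  | .d => netD
  | .w => Cfsg.Agent.RuD.IdxNetW.netW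
  | .y => Cfsg.Agent.RuD.IdxNetY.netY

/-- the level planes of a letter -/
noncomputable def lev : Lt → List ℕ
  | .t => IdxLvT.lev
  | .u => IdxLvU.lev
  | .s => IdxLvS.lev
  | .e => IdxLvE.lev
  | .g => IdxLvG.lev
  | .h => IdxLvH.lev
  | .a => IdxLvA.lev
  | .b => IdxLvB.lev
  | .f => IdxLvF.lev
  | .d => IdxLvD.lev
  | .w => IdxLvW.lev
  | .y => IdxLvY.lev

/-- the involutions -/
def isInv : Lt → Bool
  | .t => true
  | .u => true
  | .s => false
  | .e => true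
  | .g => true
  | .h => true
  | .a => false
  | .b => false
  | .f => false
  | .d => false
  | .w => true
  | .y => true

/-- the letters in the subgroup -/
def inH : Lt → Bool
  | .y => false
  | _ => true

/-- the tree masks for the letters -/
noncomputable def treeF : Lt → ℕ
  | .t => IdxTree.f_t
  | .u => IdxTree.f_u
  | .s => IdxTree.f_s
  | .e => IdxTree.f_e
  | .g => IdxTree.f_g
  | .h => IdxTree.f_h
  | .a => IdxTree.f_a
  | .b => IdxTree.f_b
  | .f => IdxTree.f_f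
  | .d => IdxTree.f_d
  | .w => IdxTree.f_w
  | .y => IdxTree.f_y

/-- the tree masks for the inverse letters -/
noncomputable def treeB : Lt → ℕ
  | .t => 0
  | .u => 0
  | .s => IdxTree.b_s
  | .e => 0
  | .g => 0
  | .h => 0
  | .a => IdxTree.b_a
  | .b => IdxTree.b_b
  | .f => IdxTree.b_f
  | .d => IdxTree.b_d
  | .w => 0
  | .y => 0

/-- the relators -/
def rels : List (List (Lt × Bool)) := relsC.map fun r => (r.map dec).reverse

/-- the certificate -/
noncomputable def C : Cert Lt where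
  S := ⟨net, lev⟩
  n := 417600
  N := 524288
  root := 412160
  isInv := isInv
  inH := inH
  rels := rels
  P := fun c => Bool.rec (treeB c.1) (treeF c.1) c.2
  rk := IdxTree.rk

/-- all points `< n` are in the mask -/
noncomputable def full (M : ℕ) : Bool :=
  seqB (Nat.sub (Nat.pow 2 417600) 1) fun U => Nat.beq (Nat.land M U) U

/-- the mask of the root -/
noncomputable def rootM (a : Lt) : ℕ := Bool.rec 0 (Nat.shiftLeft 1 412160) (inH a)

/-- tree edges and root -/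
noncomputable def base (a : Lt) : ℕ := Nat.lor (treeF a) (Nat.lor ((net a).app (treeB a)) (rootM a))

set_option linter.constructorNameAsVariable false in
theorem jm_base (a : Lt) : JM C a (base a) := by
  refine JM.or JM.treeF (JM.or JM.treeB ?_)
  cases a <;> first | exact JM.root rfl | exact JM.rules [] rfl

set_option linter.constructorNameAsVariable false in
/-- a list of justified masks -/
def Good (a : Lt) (l : List ℕ) : Prop := ∀ M ∈ l, JM C a M

set_option linter.constructorNameAsVariable false in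
theorem Good.nil (a : Lt) : Good a [] := fun _ h => absurd h List.not_mem_nil

set_option linter.constructorNameAsVariable false in
theorem Good.cons {a : Lt} {M : ℕ} {l : List ℕ} (h : JM C a M) (hl : Good a l) : Good a (M :: l) :=
  List.forall_mem_cons.2 ⟨h, hl⟩

/-- union of masks -/
noncomputable def orL (l : List ℕ) : ℕ := List.rec (motive := fun _ => ℕ) 0 (fun p _ ih => Nat.lor p ih) l

set_option linter.constructorNameAsVariable false in
theorem Good.orL {a : Lt} {l : List ℕ} (h : Good a l) : JM C a (orL l) := by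
  induction l with
  | nil => exact JM.rules [] rfl
  | cons M l ih => exact JM.or (h M List.mem_cons_self) (ih fun M' h' => h M' (List.mem_cons_of_mem _ h'))

end Cfsg.Agent.RuD.IdxDef
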