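import Cfsg.Agent.SporRec.CosetBulk

/-!
# Bulk static certificates of coset enumerations, letters of arbitrary order

Variant of `SporRec.CosetBulk`: letters need not be involutions, a step of a word is a letter with a direction
(`false`: the inverse letter), and the level planes of the inverse letters are not stored. Rules are given by
(number of the relator, rotation, inversion).
-/

set_option autoImplicit false
set_option linter.unusedSectionVars false

namespace Cfsg.Agent.RuD.IdxLib

open Cfsg.Agent.Lib.PermNet Cfsg.Agent.SporRec.CosetBulk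

/-! ### Reversed networks -/

/-- the reversed network, with accumulator -/
noncomputable def revAux (L : Net) : Net → Net :=
  Net.rec (motive := fun _ => Net → Net) (fun A => A) (fun M d _ ih A => ih (Net.cons M d A)) L

/-- the reversed network -/
noncomputable def rev (L : Net) : Net := revAux L Net.nil

theorem stagePerm_inv (M d : ℕ) : (stagePerm M d)⁻¹ = stagePerm M d := by
  unfold stagePerm
  split_ifs with h
  · rfl
  · simp

theorem apply_inv (σ : Equiv.Perm ℕ) (j : ℕ) : σ (σ⁻¹ j) = j := by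
  rw [← Equiv.Perm.mul_apply, mul_inv_cancel, Equiv.Perm.one_apply]

theorem inv_apply (σ : Equiv.Perm ℕ) (j : ℕ) : σ⁻¹ (σ j) = j := by
  rw [← Equiv.Perm.mul_apply, inv_mul_cancel, Equiv.Perm.one_apply]

theorem perm_revAux (L A : Net) : (revAux L A).perm = L.perm⁻¹ * A.perm := by
  induction L generalizing A with
  | nil => show A.perm = (1 : Equiv.Perm ℕ)⁻¹ * A.perm; simp
  | cons M d L ih =>
    show (revAux L (Net.cons M d A)).perm = _
    rw [ih, Net.perm_cons, Net.perm_cons, mul_inv_rev, stagePerm_inv, mul_assoc]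

theorem perm_rev (L : Net) : (rev L).perm = L.perm⁻¹ := by
  rw [rev, perm_revAux, Net.perm_nil, mul_one]

theorem ok_cons_mk {N M d : ℕ} {L : Net} (h1 : M &&& (M >>> d) = 0) (h2 : M >>> (N - d) = 0)
    (h3 : L.ok N = true) : (Net.cons M d L).ok N = true := by
  show and (and (Nat.beq (Nat.land M (Nat.shiftRight M d)) 0)
      (Nat.beq (Nat.shiftRight M (Nat.sub N d)) 0)) (L.ok N) = true
  rw [Bool.and_eq_true, Bool.and_eq_true]
  refine ⟨⟨?_, ?_⟩, h3⟩
  · rw [Nat.beq_eq]; exact h1
  · rw [Nat.beq_eq]; exact h2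

theorem ok_revAux {N : ℕ} (L A : Net) (hL : L.ok N = true) (hA : A.ok N = true) :
    (revAux L A).ok N = true := by
  induction L generalizing A with
  | nil => exact hA
  | cons M d L ih =>
    obtain ⟨h1, h2, h3⟩ := Net.ok_cons hL
    exact ih _ h3 (ok_cons_mk h1 h2 hA)

theorem ok_rev {N : ℕ} {L : Net} (hL : L.ok N = true) : (rev L).ok N = true :=
  ok_revAux L Net.nil hL rfl

/-! ### Systems of letters, words -/

/-- networks and level planes of the letters -/
structure Sys (ι : Type*) where
  net : ι → Net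
  lev : ι → List ℕ

variable {ι : Type*}

/-- value of a directed letter -/
def gv {G : Type*} [Group G] (x : ι → G) (c : ι × Bool) : G := if c.2 then x c.1 else (x c.1)⁻¹

/-- value of a word -/
def ev {G : Type*} [Group G] (x : ι → G) (w : List (ι × Bool)) : G := (w.map (gv x)).prod

section
variable {G : Type*} [Group G]

@[simp] theorem ev_nil (x : ι → G) : ev x [] = 1 := rfl
@[simp] theorem ev_cons (x : ι → G) (c : ι × Bool) (w : List (ι × Bool)) :
    ev x (c :: w) = gv x c * ev x w := by simp [ev]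
theorem ev_append (x : ι → G) (v w : List (ι × Bool)) : ev x (v ++ w) = ev x v * ev x w := by
  simp [ev]

/-- the inverse directed letter -/
def flip (isInv : ι → Bool) (c : ι × Bool) : ι × Bool := (c.1, isInv c.1 || !c.2)

/-- the inverse word -/
def invW (isInv : ι → Bool) (w : List (ι × Bool)) : List (ι × Bool) := (w.map (flip isInv)).reverse

theorem gv_flip {x : ι → G} {isInv : ι → Bool} (h : ∀ a, isInv a = true → x a * x a = 1)
    (c : ι × Bool) : gv x (flip isInv c) = (gv x c)⁻¹ := by
  obtain ⟨a, b⟩ := c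
  unfold gv flip
  cases hi : isInv a
  · cases b <;> simp
  · have h1 : (x a)⁻¹ = x a := inv_eq_of_mul_eq_one_left (h a hi)
    cases b <;> simp [h1]

theorem ev_invW {x : ι → G} {isInv : ι → Bool} (h : ∀ a, isInv a = true → x a * x a = 1)
    (w : List (ι × Bool)) : ev x (invW isInv w) = (ev x w)⁻¹ := by
  induction w with
  | nil => simp [invW]
  | cons c w ih =>
    have : invW isInv (c :: w) = invW isInv w ++ [flip isInv c] := by simp [invW]
    rw [this, ev_append, ih, ev_cons, ev_cons, ev_nil, mul_one, gv_flip h, mul_inv_rev]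

end

/-- the levels along a word (the last letter acts first), pulled back to the starting point -/
noncomputable def pull (S : Sys ι) (w : List (ι × Bool)) : List ℕ → List ℕ :=
  List.rec (motive := fun _ => List ℕ → List ℕ) (fun acc => acc)
    (fun c _ ih acc => Prod.rec (motive := fun _ => List ℕ) (fun a b => Bool.rec (motive := fun _ => List ℕ)
      (forceL (maxP (S.lev a) acc) fun l => forceL (mapApp (rev (S.net a)) l) ih)
      (forceL (mapApp (S.net a) acc) fun l => forceL (maxP (S.lev a) l) ih) b) c) w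

theorem pull_nil (S : Sys ι) (acc : List ℕ) : pull S [] acc = acc := rfl

theorem pull_true (S : Sys ι) (a : ι) (w : List (ι × Bool)) (acc : List ℕ) :
    pull S ((a, true) :: w) acc = pull S w (maxP (S.lev a) (mapApp (S.net a) acc)) := by
  show (forceL (mapApp (S.net a) acc) fun l => forceL (maxP (S.lev a) l) (pull S w)) = _
  rw [forceL_eq, forceL_eq]

theorem pull_false (S : Sys ι) (a : ι) (w : List (ι × Bool)) (acc : List ℕ) :
    pull S ((a, false) :: w) acc = pull S w (mapApp (rev (S.net a)) (maxP (S.lev a) acc)) := by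
  show (forceL (maxP (S.lev a) acc) fun l => forceL (mapApp (rev (S.net a)) l) (pull S w)) = _
  rw [forceL_eq, forceL_eq]

/-- the permutation of a letter -/
def Sys.p (S : Sys ι) (a : ι) : Equiv.Perm ℕ := (S.net a).perm

/-- where a rule for the letter `a` with the word `w` works -/
noncomputable def ruleM (S : Sys ι) (a : ι) (w : List (ι × Bool)) : ℕ := ltP (pull S w []) (S.lev a) 0

section sound
variable {G X : Type*} [Group G] [MulAction G X]

/-- the edges of level `< B` are correct -/
def Snd (S : Sys ι) (n : ℕ) (f : ℕ → X) (x : ι → G) (B : ℕ) : Prop :=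
  ∀ a, ∀ j < n, val (S.lev a) j < B → x a • f j = f (S.p a j)

theorem walk {S : Sys ι} {n N : ℕ} {f : ℕ → X} {x : ι → G} {B : ℕ}
    (hok : ∀ a, (S.net a).ok N = true) (hn : ∀ a j, S.p a j < n ↔ j < n) (hs : Snd S n f x B)
    (w : List (ι × Bool)) (acc : List ℕ) (i : ℕ) (hi : i < n) (h : val (pull S w acc) i < B) :
    ev x w • f i = f (ev S.p w i) ∧ ev S.p w i < n ∧ val acc (ev S.p w i) < B := by
  induction w generalizing acc with
  | nil => simpa [pull_nil] using ⟨hi, h⟩
  | cons c w ih =>
    obtain ⟨a, b⟩ := c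
    cases b
    · rw [pull_false] at h
      obtain ⟨h1, h2, h3⟩ := ih _ h
      rw [val_mapApp (ok_rev (hok a)), val_maxP, max_lt_iff, perm_rev] at h3
      rw [ev_cons, ev_cons, mul_smul, h1, Equiv.Perm.mul_apply]
      set j := ev S.p w i
      have e1 : gv x (a, false) = (x a)⁻¹ := rfl
      have e2 : gv S.p (a, false) = (S.p a)⁻¹ := rfl
      rw [e1, e2]
      have hj : (S.p a)⁻¹ j < n := by
        rw [← hn a, apply_inv]; exact h2
      have h4 : x a • f ((S.p a)⁻¹ j) = f (S.p a ((S.p a)⁻¹ j)) := hs a _ hj h3.1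
      rw [apply_inv] at h4
      refine ⟨?_, hj, h3.2⟩
      rw [← h4, inv_smul_smul]
    · rw [pull_true] at h
      obtain ⟨h1, h2, h3⟩ := ih _ h
      rw [val_maxP, val_mapApp (hok a), max_lt_iff] at h3
      rw [ev_cons, ev_cons, mul_smul, h1, Equiv.Perm.mul_apply]
      have e1 : gv x (a, true) = x a := rfl
      have e2 : gv S.p (a, true) = S.p a := rfl
      rw [e1, e2]
      exact ⟨hs a _ h2 h3.1, (hn a _).2 h2, h3.2⟩

/-- the edges `(i, a)` with `i ∈ M` follow from edges of smaller level -/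
def Jus (S : Sys ι) (n : ℕ) (f : ℕ → X) (x : ι → G) (a : ι) (M : ℕ) : Prop :=
  ∀ B, Snd S n f x B → ∀ i < n, M.testBit i = true → val (S.lev a) i ≤ B → x a • f i = f (S.p a i)

theorem Jus.rule {S : Sys ι} {n N : ℕ} {f : ℕ → X} {x : ι → G} {a : ι}
    (hok : ∀ a, (S.net a).ok N = true) (hn : ∀ a j, S.p a j < n ↔ j < n) (w : List (ι × Bool))
    (hg : ev x w = x a) (hp : ev S.p w = S.p a) : Jus S n f x a (ruleM S a w) := by
  intro B hB i hi hM hlev
  rw [ruleM, testBit_ltP] at hM
  simp only [Nat.zero_testBit, Bool.false_eq_true, and_false, or_false] at hM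
  obtain ⟨h3, -, -⟩ := walk hok hn hB w [] i hi (lt_of_lt_of_le hM hlev)
  rwa [hg, hp] at h3

theorem Jus.of_fact {S : Sys ι} {n : ℕ} {f : ℕ → X} {x : ι → G} {a : ι} {M : ℕ}
    (h : ∀ i < n, M.testBit i = true → x a • f i = f (S.p a i)) : Jus S n f x a M :=
  fun _ _ i hi hM _ => h i hi hM

theorem Jus.or {S : Sys ι} {n : ℕ} {f : ℕ → X} {x : ι → G} {a : ι} {M M' : ℕ}
    (h : Jus S n f x a M) (h' : Jus S n f x a M') : Jus S n f x a (Nat.lor M M') := by
  intro B hB i hi hM hlev
  rw [testBit_lor', Bool.or_eq_true] at hM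
  rcases hM with hM | hM
  · exact h B hB i hi hM hlev
  · exact h' B hB i hi hM hlev

theorem Jus.mono {S : Sys ι} {n : ℕ} {f : ℕ → X} {x : ι → G} {a : ι} {M M' : ℕ}
    (h : Nat.land M' M = M') (h' : Jus S n f x a M) : Jus S n f x a M' := by
  intro B hB i hi hM hlev
  rw [← h, testBit_land', Bool.and_eq_true] at hM
  exact h' B hB i hi hM.2 hlev

theorem Jus.symm {S : Sys ι} {n N : ℕ} {f : ℕ → X} {x : ι → G} {a : ι} {M : ℕ}
    (hok : ∀ a, (S.net a).ok N = true) (hn : ∀ a j, S.p a j < n ↔ j < n)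
    (hg : x a * x a = 1) (hp : S.p a * S.p a = 1)
    (hsym : mapApp (S.net a) (S.lev a) = S.lev a) (h : Jus S n f x a M) :
    Jus S n f x a ((S.net a).app M) := by
  intro B hB i hi hM hlev
  rw [testBit_app (hok a)] at hM
  have h1 : val (S.lev a) (S.p a i) = val (S.lev a) i := by
    have := val_mapApp (hok a) (S.lev a) i
    rw [hsym] at this
    exact this.symm
  have h2 := h B hB _ ((hn a i).2 hi) hM (h1 ▸ hlev)
  rw [← Equiv.Perm.mul_apply, hp, Equiv.Perm.one_apply] at h2
  rw [← h2, smul_smul, hg, one_smul]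

/-- the main induction -/
theorem sound {S : Sys ι} {n : ℕ} {f : ℕ → X} {x : ι → G} (M : ι → ℕ)
    (hM : ∀ a, ∀ i < n, (M a).testBit i = true) (h : ∀ a, Jus S n f x a (M a)) :
    ∀ a, ∀ i < n, x a • f i = f (S.p a i) := by
  have key : ∀ B, Snd S n f x B := by
    intro B
    induction B with
    | zero => intro b j _ hj; exact absurd hj (Nat.not_lt_zero _)
    | succ B ih =>
      intro b j hj hlt
      exact h b B ih j hj (hM b j hj) (Nat.le_of_lt_succ hlt)
  intro a i hi
  exact key (val (S.lev a) i + 1) a i hi (Nat.lt_succ_self _)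

end sound

/-! ### Certificates -/

/-- the data of a certificate -/
structure Cert (ι : Type*) where
  S : Sys ι
  n : ℕ
  N : ℕ
  root : ℕ
  isInv : ι → Bool
  inH : ι → Bool
  rels : List (List (ι × Bool))
  /-- tree: the points whose parent is reached by the directed letter -/
  P : ι × Bool → ℕ
  rk : List ℕ

/-- network of a directed letter -/
noncomputable def Cert.dnet (C : Cert ι) (c : ι × Bool) : Net :=
  Bool.rec (rev (C.S.net c.1)) (C.S.net c.1) c.2

/-- the relator of a rule, rotated and possibly inverted: (number, rotation, inversion) -/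
def Cert.cyc (C : Cert ι) (t : ℕ × ℕ × Bool) : List (ι × Bool) :=
  let r := C.rels.getD t.1 []
  let r' := bif t.2.2 then invW C.isInv r else r
  r'.drop t.2.1 ++ r'.take t.2.1

/-- the word of a rule -/
def Cert.word (C : Cert ι) (t : ℕ × ℕ × Bool) : List (ι × Bool) := invW C.isInv (C.cyc t).tail

/-- the rule is one for the letter `a` -/
def Cert.ruleOK [DecidableEq ι] (C : Cert ι) (a : ι) (t : ℕ × ℕ × Bool) : Bool :=
  decide (t.1 < C.rels.length) && decide ((C.cyc t).head? = some (a, true))

/-- the mask of a rule -/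
noncomputable def Cert.rM (C : Cert ι) (a : ι) (t : ℕ × ℕ × Bool) : ℕ := ruleM C.S a (C.word t)

/-- the masks of a list of rules -/
noncomputable def Cert.rMs (C : Cert ι) (a : ι) (l : List (ℕ × ℕ × Bool)) : ℕ :=
  List.rec (motive := fun _ => ℕ) 0 (fun t _ ih => Nat.lor (C.rM a t) ih) l

/-- justified masks -/
inductive JM [DecidableEq ι] (C : Cert ι) (a : ι) : ℕ → Prop
  | treeF : JM C a (C.P (a, true))
  | treeB : JM C a ((C.S.net a).app (C.P (a, false)))
  | root (h : C.inH a = true) : JM C a (Nat.shiftLeft 1 C.root)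
  | rules (l : List (ℕ × ℕ × Bool)) (h : l.all (C.ruleOK a) = true) : JM C a (C.rMs a l)
  | or {M M' : ℕ} (h : JM C a M) (h' : JM C a M') : JM C a (Nat.lor M M')
  | symm {M : ℕ} (hi : C.isInv a = true) (h : JM C a M) : JM C a ((C.S.net a).app M)
  | mono {M M' : ℕ} (hm : Nat.beq (Nat.land M' M) M' = true) (h : JM C a M) : JM C a M'

/-- what the kernel checks -/
structure Cert.Valid [DecidableEq ι] (C : Cert ι) : Prop where
  ok : ∀ a, (C.S.net a).ok C.N = true
  dom : ∀ a, rangeCheck (C.S.net a) C.n = true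
  prel : ∀ r ∈ C.rels, ev C.S.p r = 1
  inv : ∀ a, C.isInv a = true → [(a, true), (a, true)] ∈ C.rels
  sym : ∀ a, C.isInv a = true → mapApp (C.S.net a) (C.S.lev a) = C.S.lev a
  tree : ∀ c, treeCheck (C.dnet c) C.rk (C.P c) = true
  disj : ∀ c d i, (C.P c).testBit i = true → (C.P d).testBit i = true → c = d
  proot : ∀ c, (C.P c).testBit C.root = false
  fix : ∀ a, C.inH a = true → C.S.p a C.root = C.root
  cover : ∀ a, ∃ M, JM C a M ∧ ∀ i < C.n, M.testBit i = true

section valid
variable {G X : Type*} [Group G] [MulAction G X] [DecidableEq ι] {C : Cert ι}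

theorem Cert.dnet_perm (C : Cert ι) (c : ι × Bool) : (C.dnet c).perm = gv C.S.p c := by
  obtain ⟨a, b⟩ := c
  cases b
  · exact perm_rev _
  · rfl

theorem Cert.Valid.hn (h : C.Valid) (a : ι) (j : ℕ) : C.S.p a j < C.n ↔ j < C.n :=
  lt_iff_of_rangeCheck (h.ok a) (h.dom a) j

theorem ev_rot {x : ι → G} {w : List (ι × Bool)} (h : ev x w = 1) (m : ℕ) :
    ev x (w.drop m ++ w.take m) = 1 := by
  have h2 : ev x (w.take m) * ev x (w.drop m) = 1 := by
    rw [← ev_append, List.take_append_drop, h]
  rw [ev_append, mul_eq_one_iff_eq_inv.1 h2, mul_inv_cancel]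

theorem ev_cyc {x : ι → G} (hi : ∀ a, C.isInv a = true → x a * x a = 1)
    (hr : ∀ r ∈ C.rels, ev x r = 1) (t : ℕ × ℕ × Bool) (ht : t.1 < C.rels.length) :
    ev x (C.cyc t) = 1 := by
  unfold Cert.cyc
  have h1 : ev x (C.rels.getD t.1 []) = 1 := by
    rw [List.getD_eq_getElem _ _ ht]
    exact hr _ (List.getElem_mem ht)
  apply ev_rot
  cases t.2.2
  · exact h1
  · show ev x (invW C.isInv _) = 1
    rw [ev_invW hi, h1, inv_one]

theorem ev_word {x : ι → G} (hi : ∀ a, C.isInv a = true → x a * x a = 1)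
    (hr : ∀ r ∈ C.rels, ev x r = 1) {a : ι} {t : ℕ × ℕ × Bool} (h : C.ruleOK a t = true) :
    ev x (C.word t) = x a := by
  unfold Cert.ruleOK at h
  rw [Bool.and_eq_true, decide_eq_true_eq, decide_eq_true_eq] at h
  obtain ⟨h1, h2⟩ := h
  have h3 := ev_cyc hi hr t h1
  unfold Cert.word
  rw [ev_invW hi]
  revert h2 h3
  cases C.cyc t with
  | nil => intro h2; simp at h2
  | cons c w =>
    intro h2 h3
    simp only [List.head?_cons, Option.some.injEq] at h2
    subst h2
    rw [ev_cons] at h3
    rw [List.tail_cons]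
    exact (mul_eq_one_iff_eq_inv.1 h3).symm

theorem Cert.Valid.pinv (h : C.Valid) (a : ι) (ha : C.isInv a = true) : C.S.p a * C.S.p a = 1 := by
  have := h.prel _ (h.inv a ha)
  simpa [gv] using this

theorem Cert.Valid.jus (h : C.Valid) {x : ι → G} {f : ℕ → X} (hr : ∀ r ∈ C.rels, ev x r = 1)
    (hroot : ∀ a, C.inH a = true → x a • f C.root = f C.root)
    (htree : ∀ c, ∀ i < C.n, (C.P c).testBit i = true → gv x c • f i = f (gv C.S.p c i))
    {a : ι} {M : ℕ} (hM : JM C a M) : Jus C.S C.n f x a M := by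
  have hi : ∀ a, C.isInv a = true → x a * x a = 1 := by
    intro a ha
    have := hr _ (h.inv a ha)
    simpa [gv] using this
  induction hM with
  | treeF => exact Jus.of_fact fun i hi hM => htree (a, true) i hi hM
  | treeB =>
    apply Jus.of_fact
    intro j hj hM
    rw [testBit_app (h.ok a)] at hM
    have h1 := htree (a, false) _ ((h.hn a j).2 hj) hM
    have e1 : gv x (a, false) = (x a)⁻¹ := rfl
    have e2 : gv C.S.p (a, false) = (C.S.p a)⁻¹ := rfl
    have h2 : (x a)⁻¹ • f (C.S.p a j) = f ((C.S.p a)⁻¹ (C.S.p a j)) := h1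
    rw [inv_apply] at h2
    rw [← h2, smul_inv_smul]
  | root ha =>
    apply Jus.of_fact
    intro i _ hM
    have hM' : (1 <<< C.root).testBit i = true := hM
    rw [Nat.one_shiftLeft, Nat.testBit_two_pow] at hM'
    have e : C.root = i := by simpa using hM'
    subst e
    rw [h.fix a ha, hroot a ha]
  | rules l hl =>
    induction l with
    | nil =>
      intro B _ i _ hM
      have : (0 : ℕ).testBit i = true := hM
      simp at this
    | cons t l ih =>
      rw [List.all_cons, Bool.and_eq_true] at hl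
      exact Jus.or (Jus.rule h.ok h.hn _ (ev_word hi hr hl.1)
        (ev_word (fun b hb => h.pinv b hb) h.prel hl.1)) (ih hl.2)
  | or _ _ ih ih' => exact ih.or ih'
  | symm ha _ ih => exact Jus.symm h.ok h.hn (hi a ha) (h.pinv a ha) (h.sym a ha) ih
  | mono hm _ ih => exact Jus.mono (Nat.eq_of_beq_eq_true hm) ih

/-- the labelling of the orbit -/
theorem Cert.Valid.exists_label (h : C.Valid) (x : ι → G) (hr : ∀ r ∈ C.rels, ev x r = 1) (p : X)
    (hp : ∀ a, C.inH a = true → x a • p = p) :
    ∃ f : ℕ → X, f C.root = p ∧ ∀ a, ∀ i < C.n, x a • f i = f (C.S.p a i) := by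
  have hkey : ∀ c i, i < C.n → (C.P c).testBit i = true → val C.rk (gv C.S.p c i) < val C.rk i := by
    intro c i _ hi
    rw [← C.dnet_perm]
    refine lt_of_treeCheck (N := C.N) ?_ (h.tree c) hi
    obtain ⟨a, b⟩ := c
    cases b
    · exact ok_rev (h.ok a)
    · exact h.ok a
  obtain ⟨f, hf0, hf⟩ := exists_tree (n := C.n) (gv x) (fun c i => gv C.S.p c i) C.P (val C.rk) p C.root
    h.proot h.disj hkey
  refine ⟨f, hf0, ?_⟩
  choose M hM1 hM2 using h.cover
  exact sound M hM2 fun a => h.jus hr (fun b hb => by rw [hf0]; exact hp b hb) hf (hM1 a)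

theorem Cert.Valid.inv_closed (h : C.Valid) {x : ι → G} {f : ℕ → X}
    (hf : ∀ a, ∀ i < C.n, x a • f i = f (C.S.p a i)) (g : G) (hg : g ∈ Subgroup.closure (Set.range x)) :
    ∀ i < C.n, ∃ j < C.n, g • f i = f j := by
  induction hg using Subgroup.closure_induction with
  | mem g hg =>
    obtain ⟨a, rfl⟩ := hg
    exact fun i hi => ⟨_, (h.hn a i).2 hi, hf a i hi⟩
  | one => exact fun i hi => ⟨i, hi, one_smul _ _⟩
  | mul a b _ _ iha ihb =>
    intro i hi
    obtain ⟨j, hj, e1⟩ := ihb i hi
    obtain ⟨k, hk, e2⟩ := iha j hj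
    exact ⟨k, hk, by rw [mul_smul, e1, e2]⟩
  | inv a _ ih =>
    -- `a` permutes the finite set `f '' {i < n}`
    have hfin : (f '' {i | i < C.n}).Finite := (Set.finite_lt_nat C.n).image f
    have hmaps : Set.MapsTo (fun y : X => a • y) (f '' {i | i < C.n}) (f '' {i | i < C.n}) := by
      rintro _ ⟨i, hi, rfl⟩
      obtain ⟨j, hj, e⟩ := ih i hi
      exact ⟨j, hj, e.symm⟩
    have himg : (fun y : X => a • y) '' (f '' {i | i < C.n}) = f '' {i | i < C.n} :=
      Set.eq_of_subset_of_ncard_le hmaps.image_subset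
        (by rw [Set.ncard_image_of_injective _ (MulAction.injective a)]) hfin
    intro i hi
    have hmem : f i ∈ (fun y : X => a • y) '' (f '' {i | i < C.n}) := by
      rw [himg]; exact ⟨i, hi, rfl⟩
    obtain ⟨_, ⟨j, hj, rfl⟩, e⟩ := hmem
    exact ⟨j, hj, by rw [← e, inv_smul_smul]⟩

/-- the index bound -/
theorem Cert.Valid.relIndex_le (h : C.Valid) (hroot : C.root < C.n) (x : ι → G)
    (hr : ∀ r ∈ C.rels, ev x r = 1) (H : Subgroup G) (hH : ∀ a, C.inH a = true → x a ∈ H) :
    H.relIndex (Subgroup.closure (Set.range x)) ≤ C.n ∧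
      H.relIndex (Subgroup.closure (Set.range x)) ≠ 0 := by
  set K := Subgroup.closure (Set.range x)
  obtain ⟨f, hf0, hf⟩ := h.exists_label (X := G ⧸ H) x hr ((1 : G) : G ⧸ H) (fun a ha => by
    show ((x a * 1 : G) : G ⧸ H) = ((1 : G) : G ⧸ H)
    rw [QuotientGroup.eq]
    simpa using H.inv_mem (hH a ha))
  have hcl := h.inv_closed hf
  -- injection of `K ⧸ (H ∩ K)` into the labelled points
  let φ : K ⧸ H.subgroupOf K → (f '' {i | i < C.n}) := fun q =>
    Quotient.liftOn' q (fun g => ⟨(g : G) • ((1 : G) : G ⧸ H), by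
      obtain ⟨j, hj, e⟩ := hcl g g.2 C.root hroot
      exact ⟨j, hj, by rw [← e, hf0]⟩⟩) (fun a b hab => by
        apply Subtype.ext
        show (((a : G) * 1 : G) : G ⧸ H) = (((b : G) * 1 : G) : G ⧸ H)
        rw [mul_one, mul_one, QuotientGroup.eq]
        have := QuotientGroup.leftRel_apply.1 hab
        exact this)
  have hφ : Function.Injective φ := by
    intro q₁ q₂
    induction q₁ using Quotient.inductionOn' with | h a => ?_
    induction q₂ using Quotient.inductionOn' with | h b => ?_
    intro hab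
    have h1 : (((a : G) * 1 : G) : G ⧸ H) = (((b : G) * 1 : G) : G ⧸ H) := congrArg Subtype.val hab
    rw [mul_one, mul_one, QuotientGroup.eq] at h1
    exact Quotient.sound' (QuotientGroup.leftRel_apply.2 h1)
  have hfin : (f '' {i | i < C.n}).Finite := (Set.finite_lt_nat C.n).image f
  have : Finite (f '' {i | i < C.n}) := hfin
  have : Finite (K ⧸ H.subgroupOf K) := Finite.of_injective φ hφ
  constructor
  · have h1 : Nat.card (K ⧸ H.subgroupOf K) ≤ Nat.card (f '' {i | i < C.n}) :=
      Nat.card_le_card_of_injective φ hφ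
    have h2 : Nat.card (f '' {i | i < C.n}) ≤ C.n := by
      have h3 : (f '' {i | i < C.n}).ncard ≤ ({i | i < C.n} : Set ℕ).ncard :=
        Set.ncard_image_le (Set.finite_lt_nat C.n)
      have h4 : ({i | i < C.n} : Set ℕ).ncard = C.n := by
        have : ({i | i < C.n} : Set ℕ) = ↑(Finset.range C.n) := by ext; simp
        rw [this, Set.ncard_coe_finset, Finset.card_range]
      rw [h4] at h3
      exact h3
    exact h1.trans h2
  · exact Nat.card_ne_zero.2 ⟨⟨((1 : K) : K ⧸ H.subgroupOf K)⟩, inferInstance⟩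

end valid

end Cfsg.Agent.RuD.IdxLib
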