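import Cfsg.Agent.RuD.HWord
import Cfsg.Agent.RuD.RelsX

/-! The relators of the coset enumeration, in the letters `0..16` = `t, u, s, e, g, h, a, b, f, d, w, y, s⁻¹, a⁻¹, b⁻¹,
f⁻¹, d⁻¹` with `u = d⁻¹ t d`, `e = s²`, `g = f⁻¹ e f`, `h = f⁻² e f²`, `a = f⁻¹ s f`, `b = f⁻² s f²`. -/

set_option autoImplicit false
set_option maxRecDepth 100000
set_option exponentiation.threshold 5000

namespace Cfsg.Agent.RuD.IdxRel

open Cfsg.Agent.RuD.Rels Cfsg.Agent.RuD.HWord Cfsg.Agent.SporRec.TCUpperCert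

/-- the letters -/
def gl {K : Type*} [Group K] (t s w f d y : K) : List K :=
  [t, d⁻¹ * t * d, s, s * s, f⁻¹ * s * s * f, f⁻¹ * f⁻¹ * s * s * f * f, f⁻¹ * s * f, f⁻¹ * f⁻¹ * s * f * f, f, d, w, y,
    s⁻¹, f⁻¹ * s⁻¹ * f, f⁻¹ * f⁻¹ * s⁻¹ * f * f, f⁻¹, d⁻¹]

/-- the letters as words in `Rels.letters` -/
def ex : List (List ℕ) := [
  [0],
  [8, 0, 4],
  [1],
  [1, 1],
  [7, 1, 1, 3],
  [7, 7, 1, 1, 3, 3],
  [7, 1, 3],
  [7, 7, 1, 3, 3],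
  [3],
  [4],
  [2],
  [5],
  [6],
  [7, 6, 3],
  [7, 7, 6, 3, 3],
  [7],
  [8]]

/-- expand a word -/
noncomputable def expand (r : List ℕ) : List ℕ :=
  List.rec (motive := fun _ => List ℕ) [] (fun a _ ih => List.append (ex.getD a []) ih) r

variable {K : Type*} [Group K] {t s w f d y : K}

theorem lv_gl (t s w f d y : K) (a : ℕ) : lv (gl t s w f d y) a = wprod (letters t s w f d y) (ex.getD a []) := by
  rcases lt_or_ge a 17 with h | h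
  · interval_cases a <;>
      simp only [gl, ex, wprod, lv, letters, List.map_cons, List.map_nil, List.prod_cons, List.prod_nil, mul_one,
        List.getD_cons_zero, List.getD_cons_succ, mul_assoc]
  · rw [lv_of_ge _ a (by exact h), List.getD_eq_default _ _ (by exact h)]; rfl

theorem wprod_expand (r : List ℕ) : wprod (letters t s w f d y) (expand r) = wprod (gl t s w f d y) r := by
  induction r with
  | nil => rfl
  | cons a r ih =>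
    change wprod (letters t s w f d y) (ex.getD a [] ++ expand r) = _
    rw [wprod_append, ih, wprod_cons, lv_gl]

/-- the relators without `y` -/
def relsH : List (List ℕ) := [
  [3, 3],
  [4, 4],
  [5, 5],
  [0, 0],
  [1, 1],
  [10, 10],
  [6, 6, 4],
  [7, 7, 5],
  [9, 9, 9],
  [2, 2, 3],
  [6, 3, 13, 3],
  [6, 8, 14, 15],
  [6, 4, 13, 4],
  [6, 5, 13, 5],
  [7, 9, 13, 16],
  [7, 3, 14, 3],
  [7, 4, 14, 4],
  [7, 5, 14, 5],
  [9, 10, 16, 10],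
  [3, 9, 3, 16],
  [3, 8, 4, 15],
  [3, 4, 3, 4],
  [3, 5, 3, 5],
  [8, 10, 8, 10],
  [4, 8, 5, 15],
  [4, 5, 4, 5],
  [5, 9, 4, 16],
  [2, 9, 12, 16],
  [2, 3, 12, 3],
  [2, 8, 13, 15],
  [2, 4, 12, 4],
  [2, 5, 12, 5],
  [2, 2, 2, 2],
  [0, 6, 0, 13],
  [0, 7, 0, 14],
  [0, 9, 1, 16],
  [0, 3, 0, 3],
  [0, 8, 0, 15],
  [0, 4, 0, 4],
  [0, 5, 0, 5],
  [0, 2, 0, 12],
  [0, 1, 0, 1],
  [0, 10, 0, 10],
  [1, 6, 1, 13],
  [1, 7, 1, 14],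
  [1, 3, 1, 3],
  [1, 8, 1, 15],
  [1, 4, 1, 4],
  [1, 5, 1, 5],
  [1, 2, 1, 12],
  [1, 10, 1, 10],
  [6, 7, 3, 13, 14],
  [4, 15, 12, 12, 8],
  [5, 8, 5, 3, 15],
  [1, 9, 1, 0, 16],
  [15, 15, 3, 8, 8, 5],
  [7, 15, 15, 12, 8, 8],
  [8, 9, 8, 8, 8, 16],
  [4, 9, 5, 4, 3, 16],
  [2, 6, 5, 4, 12, 13],
  [2, 7, 4, 3, 12, 14],
  [0, 9, 0, 9, 0, 9],
  [10, 2, 10, 12, 10, 3],
  [12, 12, 10, 2, 10, 12, 10],
  [7, 8, 5, 3, 13, 12, 15],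
  [8, 8, 8, 8, 8, 8, 8],
  [5, 15, 15, 12, 12, 8, 8],
  [10, 3, 10, 3, 12, 10, 12],
  [6, 9, 5, 4, 3, 14, 13, 16],
  [10, 2, 3, 10, 3, 10, 3, 12],
  [15, 15, 15, 12, 8, 8, 12, 8, 12],
  [15, 12, 12, 8, 12, 15, 12, 12, 8, 2],
  [15, 12, 8, 12, 12, 15, 2, 8, 12, 12],
  [10, 6, 7, 10, 5, 3, 10, 15, 13, 12],
  [10, 4, 5, 10, 4, 13, 10, 8, 8, 13],
  [10, 2, 7, 10, 4, 10, 8, 8, 4, 13],
  [10, 6, 4, 10, 5, 4, 10, 15, 15, 14, 12],
  [10, 3, 4, 10, 5, 14, 10, 15, 15, 15, 14],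
  [10, 2, 6, 10, 5, 4, 3, 10, 8, 14, 13],
  [10, 2, 7, 4, 5, 10, 13, 10, 8, 8, 4],
  [10, 2, 4, 10, 3, 13, 10, 15, 4, 3, 14],
  [10, 6, 3, 10, 4, 12, 10, 8, 5, 4, 13, 12],
  [10, 6, 10, 5, 4, 14, 12, 10, 15, 15, 5, 4],
  [10, 7, 3, 4, 10, 5, 4, 14, 10, 8, 4, 12],
  [10, 4, 10, 14, 12, 10, 15, 15, 5, 4, 14, 12],
  [10, 2, 6, 7, 5, 10, 14, 10, 15, 15, 15, 5],
  [10, 2, 7, 4, 10, 14, 13, 12, 10, 4, 13, 12],
  [10, 2, 5, 10, 3, 14, 10, 15, 15, 4, 14, 13],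
  [10, 6, 7, 4, 10, 5, 14, 13, 10, 8, 8, 5, 12],
  [10, 7, 3, 4, 5, 10, 4, 3, 12, 10, 8, 4, 14],
  [10, 7, 3, 10, 5, 12, 10, 8, 8, 4, 3, 14, 12],
  [10, 7, 4, 5, 10, 4, 3, 14, 10, 15, 3, 14, 12],
  [10, 7, 10, 5, 14, 13, 12, 10, 8, 8, 8, 4, 3],
  [10, 3, 4, 5, 10, 13, 12, 10, 15, 5, 3, 13, 12],
  [10, 3, 5, 10, 14, 13, 10, 8, 5, 4, 3, 14, 13],
  [10, 2, 6, 4, 5, 10, 3, 14, 12, 10, 15, 3, 13],
  [10, 6, 3, 4, 10, 4, 3, 13, 12, 10, 8, 4, 3, 12],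
  [10, 2, 6, 7, 3, 4, 10, 4, 13, 12, 10, 5, 14, 12],
  [10, 2, 6, 7, 10, 4, 14, 12, 10, 5, 4, 3, 13, 12],
  [10, 2, 6, 3, 4, 5, 10, 5, 14, 12, 10, 14, 13, 12],
  [10, 2, 6, 4, 10, 4, 3, 14, 13, 12, 10, 4, 14, 12],
  [10, 2, 7, 3, 10, 5, 4, 13, 12, 10, 8, 5, 4, 14],
  [10, 2, 3, 4, 10, 5, 4, 3, 14, 10, 15, 4, 3, 13],
  [10, 2, 4, 5, 10, 5, 13, 10, 8, 8, 8, 3, 14, 13],
  [10, 6, 7, 3, 4, 5, 10, 5, 3, 13, 12, 10, 15, 5, 3],
  [10, 6, 3, 4, 5, 10, 5, 13, 12, 10, 8, 8, 8, 5, 13],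
  [10, 6, 3, 5, 10, 5, 4, 13, 10, 8, 8, 8, 3, 13, 12],
  [10, 6, 5, 10, 5, 4, 12, 10, 15, 15, 15, 5, 4, 3, 13],
  [10, 7, 3, 5, 10, 5, 3, 14, 12, 10, 8, 8, 5, 3, 12],
  [10, 7, 4, 10, 5, 4, 3, 14, 12, 10, 15, 5, 4, 3, 14],
  [10, 2, 6, 7, 3, 4, 5, 10, 5, 10, 15, 15, 15, 5, 14],
  [10, 2, 7, 3, 4, 5, 10, 4, 14, 10, 8, 4, 3, 13, 12],
  [10, 2, 3, 5, 10, 5, 3, 14, 13, 10, 15, 15, 5, 3, 14],
  [10, 6, 7, 3, 5, 10, 5, 3, 12, 10, 8, 8, 4, 3, 14, 13],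
  [10, 6, 7, 3, 10, 3, 14, 13, 12, 10, 15, 15, 15, 5, 4, 12],
  [10, 6, 7, 5, 10, 4, 14, 13, 10, 15, 15, 5, 4, 14, 13, 12],
  [10, 6, 4, 5, 10, 5, 3, 13, 10, 15, 15, 15, 5, 4, 3, 12],
  [10, 7, 5, 10, 4, 3, 10, 8, 8, 8, 5, 4, 3, 14, 13, 12],
  [10, 2, 6, 7, 3, 10, 3, 14, 13, 10, 8, 8, 8, 5, 13, 12],
  [10, 2, 6, 3, 4, 10, 4, 3, 13, 10, 15, 5, 4, 3, 14, 12],
  [10, 2, 6, 3, 5, 10, 5, 4, 3, 14, 13, 10, 8, 5, 4, 3],
  [10, 2, 6, 3, 10, 4, 14, 13, 12, 10, 15, 15, 15, 5, 3, 13],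
  [10, 2, 7, 3, 4, 10, 5, 4, 14, 13, 12, 10, 15, 15, 3, 14],
  [10, 2, 7, 5, 10, 5, 4, 3, 13, 12, 10, 4, 3, 14, 13, 12],
  [10, 5, 10, 5, 4, 3, 14, 13, 12, 10, 8, 8, 8, 5, 14, 13, 12],
  [10, 2, 6, 7, 4, 5, 10, 4, 3, 14, 12, 10, 8, 8, 5, 14, 13],
  [10, 2, 6, 7, 4, 10, 3, 13, 12, 10, 8, 8, 8, 5, 4, 14, 13],
  [10, 2, 6, 5, 10, 5, 4, 3, 13, 10, 15, 15, 15, 3, 14, 13, 12],
  [10, 2, 7, 3, 5, 10, 5, 3, 14, 10, 15, 15, 5, 3, 14, 13, 12],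
  [10, 2, 3, 4, 5, 10, 5, 4, 14, 13, 10, 8, 8, 8, 5, 4, 13],
  [10, 6, 7, 3, 4, 10, 5, 3, 14, 13, 12, 10, 15, 15, 5, 3, 14, 13],
  [10, 6, 7, 4, 5, 10, 5, 4, 3, 12, 10, 15, 15, 15, 4, 14, 13, 12],
  [10, 2, 6, 7, 3, 5, 10, 4, 3, 14, 13, 10, 8, 8, 5, 3, 14, 12]]

/-- the relators with `y` -/
def relsY : List (List ℕ) := [
  [11, 11],
  [11, 9, 11, 9],
  [11, 3, 11, 3],
  [11, 2, 11, 12],
  [11, 10, 11, 10],
  [0, 11, 0, 11, 0, 11],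
  [11, 0, 1, 11, 1, 11, 16, 1],
  [11, 4, 11, 0, 11, 4, 11, 0, 4],
  [11, 1, 11, 0, 1, 11, 9, 1, 0],
  [8, 2, 15, 11, 8, 2, 15, 11, 8, 2, 15, 11, 2, 2]]

theorem chk_relsH : chkH (relsH.map expand) = true := by decide +kernel

theorem relsH_ok (h : RuRels t s w f d y) : ∀ r ∈ relsH, wprod (gl t s w f d y) r = 1 := by
  intro r hr
  rw [← wprod_expand]
  exact word_of_chk h chk_relsH _ (List.mem_map_of_mem hr)

/-! ### relations with `y` -/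

section alg

theorem alg_yuy (hy : y * y = 1) (hd3 : d * d * d = 1) (hyd : y * d * y * d = 1) (hyt : y * t * y = t * y * t) :
    y * (d⁻¹ * t * d) * y = (d * t * d⁻¹) * (y * d) * (d * t * d⁻¹) := by
  have hdy : d * y = y * d⁻¹ := by
    have h1 : y * d * y = d⁻¹ := eq_inv_of_mul_eq_one_left hyd
    rw [← h1, ← mul_assoc, ← mul_assoc, hy, one_mul]
  have hdd : d⁻¹ * d⁻¹ = d := by
    rw [← mul_inv_rev, inv_eq_iff_mul_eq_one]; exact hd3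
  have hdyd : d * y * d⁻¹ = y * d := by rw [hdy, mul_assoc, hdd]
  calc y * (d⁻¹ * t * d) * y = (y * d⁻¹) * t * (d * y) := by simp only [mul_assoc]
    _ = (d * y) * t * (y * d⁻¹) := by rw [← hdy]
    _ = d * (y * t * y) * d⁻¹ := by simp only [mul_assoc]
    _ = d * (t * y * t) * d⁻¹ := by rw [hyt]
    _ = (d * t * d⁻¹) * (d * y * d⁻¹) * (d * t * d⁻¹) := by group
    _ = (d * t * d⁻¹) * (y * d) * (d * t * d⁻¹) := by rw [hdyd]

variable {u v : K}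

theorem alg9 (hyd : y * d * y * d = 1) (hvv : v * v = 1) (huy : y * u * y = v * (y * d) * v)
    (htu : t * u = v) (hut : u * t = v) : y * u * y * t * u * y * d * u * t = 1 := by
  calc y * u * y * t * u * y * d * u * t = (y * u * y) * (t * u) * (y * d) * (u * t) := by simp only [mul_assoc]
    _ = (v * (y * d) * v) * v * (y * d) * v := by rw [huy, htu, hut]
    _ = v * (y * d) * (v * v) * (y * d) * v := by simp only [mul_assoc]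
    _ = v * (y * d * y * d) * v := by rw [hvv, mul_one]; simp only [mul_assoc]
    _ = 1 := by rw [hyd, mul_one, hvv]

theorem alg7 (hyt : y * t * y = t * y * t) (hd3 : d * d * d = 1) (hyd : y * d * y * d = 1) (hy : y * y = 1)
    (huu : u * u = 1) (huy : y * u * y = v * (y * d) * v)
    (htu : t * u = v) (htv : t * v = u) (hvd : v * d * v = d * u) : y * t * u * y * u * y * d⁻¹ * u = 1 := by
  have hdi : d * d = d⁻¹ := eq_inv_of_mul_eq_one_left hd3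
  have h1 : y * v * y = u * y * d⁻¹ * u := by
    calc y * v * y = (y * t * y) * (y * y)⁻¹ * (y * u * y) := by rw [← htu]; group
      _ = t * y * t * (v * (y * d) * v) := by rw [hyt, huy, hy, inv_one, mul_one]
      _ = t * y * (t * v) * y * d * v := by simp only [mul_assoc]
      _ = t * (y * u * y) * d * v := by rw [htv]; simp only [mul_assoc]
      _ = (t * v) * y * d * (v * d * v) := by rw [huy]; simp only [mul_assoc]
      _ = u * y * (d * d) * u := by rw [htv, hvd]; simp only [mul_assoc]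
      _ = u * y * d⁻¹ * u := by rw [hdi]
  have h2 : y * d⁻¹ * y * d⁻¹ = 1 := by
    have h3 : d⁻¹ * y * d⁻¹ * y = (y * d * y * d)⁻¹ := by
      have hyi : y⁻¹ = y := inv_eq_of_mul_eq_one_left hy
      rw [mul_inv_rev, mul_inv_rev, mul_inv_rev, hyi]; simp only [mul_assoc]
    rw [hyd, inv_one] at h3
    calc y * d⁻¹ * y * d⁻¹ = y * (d⁻¹ * y * d⁻¹ * y) * y⁻¹ := by group
      _ = 1 := by rw [h3, mul_one, mul_inv_cancel]
  calc y * t * u * y * u * y * d⁻¹ * u = (y * (t * u) * y) * u * y * d⁻¹ * u := by simp only [mul_assoc]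
    _ = (u * y * d⁻¹ * u) * u * y * d⁻¹ * u := by rw [htu, h1]
    _ = u * y * d⁻¹ * (u * u) * y * d⁻¹ * u := by simp only [mul_assoc]
    _ = u * (y * d⁻¹ * y * d⁻¹) * u := by rw [huu, mul_one]; simp only [mul_assoc]
    _ = 1 := by rw [h2, mul_one, huu]

end alg

/-- words in `t, u, d` used below -/
theorem chk_small : chkH [[4, 0, 8, 8, 0, 4, 0], [8, 0, 4, 0, 8, 0, 4, 0], [8, 0, 4, 8, 0, 4],
    [4, 0, 8, 4, 4, 0, 8, 8, 0, 4, 8], [4, 0, 8, 4, 0, 8], [0, 4, 0, 8, 8, 0, 4]] = true := by decide +kernel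

theorem relsY_ok (h : RuRelsX t s w f d y) : ∀ r ∈ relsY, wprod (gl t s w f d y) r = 1 := by
  have hs := word_of_chk h.toRuRels chk_small
  simp only [List.forall_mem_cons, List.not_mem_nil, false_imp_iff, implies_true, and_true, wprod, lv, letters,
    List.map_cons, List.map_nil, List.prod_cons, List.prod_nil, mul_one, List.getD_cons_zero,
    List.getD_cons_succ] at hs
  obtain ⟨s1, s2, s3, s4, s5, s6⟩ := hs
  have hy := h.y2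
  have hyi : y⁻¹ = y := inv_eq_of_mul_eq_one_left hy
  have hti : t⁻¹ = t := inv_eq_of_mul_eq_one_left h.t2
  have hyt : y * t * y = t * y * t := by
    have h1 : t * y * t * (y * t * y) = 1 := by rw [← h.ty]; simp only [mul_assoc]
    have h2 := eq_inv_of_mul_eq_one_right h1
    rw [h2, mul_inv_rev, mul_inv_rev, hyi, hti, mul_assoc]
  have hvd' : d * t * d⁻¹ = t * (d⁻¹ * t * d) := by
    have e : d * t * d⁻¹ * (t * (d⁻¹ * t * d))⁻¹ = 1 := by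
      rw [mul_inv_rev, mul_inv_rev, mul_inv_rev, inv_inv, hti, ← s1]; simp only [mul_assoc]
    exact mul_inv_eq_one.1 e
  have huu : (d⁻¹ * t * d) * (d⁻¹ * t * d) = 1 := by rw [← s3]; simp only [mul_assoc]
  have hut : (d⁻¹ * t * d) * t = t * (d⁻¹ * t * d) := by
    have e : (d⁻¹ * t * d) * t * ((d⁻¹ * t * d) * t) = 1 := by rw [← s2]; simp only [mul_assoc]
    have e2 := eq_inv_of_mul_eq_one_left e
    rw [mul_inv_rev, hti] at e2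
    rw [e2, inv_eq_of_mul_eq_one_left huu]
  have hvv : (d * t * d⁻¹) * (d * t * d⁻¹) = 1 := by rw [← s5]; simp only [mul_assoc]
  have htv : t * (d * t * d⁻¹) = d⁻¹ * t * d := by
    rw [hvd', ← mul_assoc, h.t2, one_mul]
  have hvd : (d * t * d⁻¹) * d * (d * t * d⁻¹) = d * (d⁻¹ * t * d) := by
    have e : (d * t * d⁻¹) * d * (d * t * d⁻¹) * (d * (d⁻¹ * t * d))⁻¹ = 1 := by
      rw [mul_inv_rev, mul_inv_rev, mul_inv_rev, inv_inv, hti, ← s4]; simp only [mul_assoc]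
    exact mul_inv_eq_one.1 e
  have huy := alg_yuy hy h.d3 h.yd hyt
  have r7 := alg7 hyt h.d3 h.yd hy huu huy hvd'.symm htv hvd
  have r9 := alg9 h.yd hvv huy hvd'.symm (by rw [hut, hvd'])
  have hys : y * s * y = s := mul_inv_eq_one.1 h.ys
  have r3 : y * (s * s) * y * (s * s) = 1 := by
    calc y * (s * s) * y * (s * s) = (y * s * y) * (y * y)⁻¹ * (y * s * y) * (s * s) := by group
      _ = s * s * s * s := by rw [hys, hy, inv_one, mul_one]; simp only [mul_assoc]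
      _ = 1 := h.s4
  simp only [relsY, List.forall_mem_cons, List.not_mem_nil, false_imp_iff, implies_true, and_true, wprod, lv, gl,
    List.map_cons, List.map_nil, List.prod_cons, List.prod_nil, mul_one, List.getD_cons_zero,
    List.getD_cons_succ]
  obtain ⟨⟨h0, h1, h2, h3, h4, h5, h6, h7, h8, h9, h10, h11, h12, h13, h14, h15, h16, h17, h18, h19, h20, h21,
    h22⟩, h23⟩ := h
  simp only [mul_assoc] at *
  exact ⟨h17, h18, r3, h20, h21, h19, r7, h23, r9, h22⟩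

/-- all relators -/
def rels : List (List ℕ) := relsH ++ relsY

theorem rels_ok (h : RuRelsX t s w f d y) : ∀ r ∈ rels, wprod (gl t s w f d y) r = 1 := by
  intro r hr
  rcases List.mem_append.1 hr with hr | hr
  · exact relsH_ok h.toRuRels r hr
  · exact relsY_ok h r hr

end Cfsg.Agent.RuD.IdxRel
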