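import Cfsg.Agent.RuD.IdxNet
import Cfsg.Agent.RuD.IdxNetW
import Cfsg.Agent.RuD.IdxNetY
import Cfsg.Agent.RuD.IdxRel
import Cfsg.Agent.SporRec.CosetBulk

/-! The networks of `IdxNet`, `IdxNetW`, `IdxNetY` satisfy the 24 relations. -/

set_option autoImplicit false
set_option maxRecDepth 100000
set_option exponentiation.threshold 1000000
set_option Elab.async false

namespace Cfsg.Agent.RuD.IdxPerm

open Cfsg.Agent.Lib.PermNet Cfsg.Agent.RuD.IdxNet Cfsg.Agent.RuD.IdxNetW Cfsg.Agent.RuD.IdxNetY
  Cfsg.Agent.RuD.Rels Cfsg.Agent.RuD.IdxRel Cfsg.Agent.SporRec.TCUpperCert Cfsg.Agent.SporRec.CosetBulk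

theorem okT : netT.ok (2 ^ 19) = true := by decide +kernel
theorem okU : netU.ok (2 ^ 19) = true := by decide +kernel
theorem okS : netS.ok (2 ^ 19) = true := by decide +kernel
theorem okSi : netSi.ok (2 ^ 19) = true := by decide +kernel
theorem okE : netE.ok (2 ^ 19) = true := by decide +kernel
theorem okG : netG.ok (2 ^ 19) = true := by decide +kernel
theorem okH : netH.ok (2 ^ 19) = true := by decide +kernel
theorem okA : netA.ok (2 ^ 19) = true := by decide +kernel
theorem okAi : netAi.ok (2 ^ 19) = true := by decide +kernel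
theorem okB : netB.ok (2 ^ 19) = true := by decide +kernel
theorem okBi : netBi.ok (2 ^ 19) = true := by decide +kernel
theorem okF : netF.ok (2 ^ 19) = true := by decide +kernel
theorem okFi : netFi.ok (2 ^ 19) = true := by decide +kernel
theorem okD : netD.ok (2 ^ 19) = true := by decide +kernel
theorem okDi : netDi.ok (2 ^ 19) = true := by decide +kernel
theorem okW : netW.ok (2 ^ 19) = true := by decide +kernel
theorem okY : netY.ok (2 ^ 19) = true := by decide +kernel

/-- the networks of the inverses of `t, s, w, f, d, y` and of `s, f, d` -/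
noncomputable def nl : List Net := [netT, netSi, netW, netFi, netDi, netY, netS, netF, netD]

theorem ok_nl : ∀ L ∈ nl, L.ok (2 ^ 19) = true := by
  intro L hL
  simp only [nl, List.mem_cons, List.not_mem_nil, or_false] at hL
  rcases hL with rfl | rfl | rfl | rfl | rfl | rfl | rfl | rfl | rfl
  · exact okT
  · exact okSi
  · exact okW
  · exact okFi
  · exact okDi
  · exact okY
  · exact okS
  · exact okF
  · exact okD

/-- the networks of a word -/
noncomputable def nw (r : List ℕ) : List Net :=
  List.rec (motive := fun _ => List Net) [] (fun a _ ih => nl.getD a Net.nil :: ih) r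

theorem ok_nw (r : List ℕ) (hr : ∀ a ∈ r, a < 9) : WOk (2 ^ 19) (nw r) := by
  induction r with
  | nil => exact WOk.nil _
  | cons a r ih =>
    refine WOk.cons (ok_nl _ ?_) (ih fun b hb => hr b (List.mem_cons_of_mem _ hb))
    have ha : a < nl.length := hr a (by simp)
    rw [List.getD_eq_getElem _ _ ha]
    exact List.getElem_mem ha

/-- all words act trivially on the plane `b` -/
noncomputable def chkB (rs : List (List ℕ)) (b : ℕ) : Bool :=
  List.rec (motive := fun _ => Bool) true (fun r _ ih => and (checkPlane 19 (nw r) [] b) ih) rs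

theorem of_chkB {rs : List (List ℕ)} {b : ℕ} (h : chkB rs b = true) : ∀ r ∈ rs, checkPlane 19 (nw r) [] b = true := by
  induction rs with
  | nil => simp
  | cons r rs ih =>
    have h' : and (checkPlane 19 (nw r) [] b) (chkB rs b) = true := h
    rw [Bool.and_eq_true] at h'
    intro r' hr'
    rcases List.mem_cons.1 hr' with rfl | h2
    · exact h'.1
    · exact ih h'.2 r' h2

/-- the words which are checked: the inverses and the 24 relations -/
def ws : List (List ℕ) := [2, 2] :: [1, 6] :: [3, 7] :: [4, 8] :: wordXt :: words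

theorem c0 : chkB ws 0 = true := by decide +kernel
theorem c1 : chkB ws 1 = true := by decide +kernel
theorem c2 : chkB ws 2 = true := by decide +kernel
theorem c3 : chkB ws 3 = true := by decide +kernel
theorem c4 : chkB ws 4 = true := by decide +kernel
theorem c5 : chkB ws 5 = true := by decide +kernel
theorem c6 : chkB ws 6 = true := by decide +kernel
theorem c7 : chkB ws 7 = true := by decide +kernel
theorem c8 : chkB ws 8 = true := by decide +kernel
theorem c9 : chkB ws 9 = true := by decide +kernel
theorem c10 : chkB ws 10 = true := by decide +kernel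
theorem c11 : chkB ws 11 = true := by decide +kernel
theorem c12 : chkB ws 12 = true := by decide +kernel
theorem c13 : chkB ws 13 = true := by decide +kernel
theorem c14 : chkB ws 14 = true := by decide +kernel
theorem c15 : chkB ws 15 = true := by decide +kernel
theorem c16 : chkB ws 16 = true := by decide +kernel
theorem c17 : chkB ws 17 = true := by decide +kernel
theorem c18 : chkB ws 18 = true := by decide +kernel

theorem call : ∀ b < 19, chkB ws b = true := by
  intro b hb
  interval_cases b
  · exact c0
  · exact c1
  · exact c2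
  · exact c3
  · exact c4
  · exact c5
  · exact c6
  · exact c7
  · exact c8
  · exact c9
  · exact c10
  · exact c11
  · exact c12
  · exact c13
  · exact c14
  · exact c15
  · exact c16
  · exact c17
  · exact c18

theorem lt9 : ∀ r ∈ ws, ∀ a ∈ r, a < 9 := by decide +kernel

theorem ws_ok : ∀ r ∈ ws, wperm (nw r) = 1 := fun r hr =>
  wperm_eq_of_planes (ok_nw r (lt9 r hr)) (WOk.nil _) fun b hb => of_chkB (call b hb) r hr

theorem permT : netT.perm⁻¹ = netT.perm :=
  inv_eq_of_mul_eq_one_left (ws_ok [0, 0] (by decide +kernel))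
theorem permW : netW.perm⁻¹ = netW.perm :=
  inv_eq_of_mul_eq_one_left (ws_ok [2, 2] (by decide +kernel))
theorem permY : netY.perm⁻¹ = netY.perm :=
  inv_eq_of_mul_eq_one_left (ws_ok [5, 5] (by decide +kernel))
theorem permS : netS.perm⁻¹ = netSi.perm := inv_eq_of_mul_eq_one_left (ws_ok [1, 6] (by decide +kernel))
theorem permF : netF.perm⁻¹ = netFi.perm := inv_eq_of_mul_eq_one_left (ws_ok [3, 7] (by decide +kernel))
theorem permD : netD.perm⁻¹ = netDi.perm := inv_eq_of_mul_eq_one_left (ws_ok [4, 8] (by decide +kernel))

/-- the letters of the model on the cosets -/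
noncomputable def pl : List (Equiv.Perm ℕ) :=
  letters netT.perm⁻¹ netS.perm⁻¹ netW.perm⁻¹ netF.perm⁻¹ netD.perm⁻¹ netY.perm⁻¹

theorem pl_eq : pl = nl.map Net.perm := by
  simp only [pl, letters, nl, List.map_cons, List.map_nil, inv_inv, permT, permW, permY, ← permS, ← permF, ← permD]

theorem wperm_nw (r : List ℕ) (hr : ∀ a ∈ r, a < 9) : wperm (nw r) = wprod pl r := by
  induction r with
  | nil => rfl
  | cons a r ih =>
    have ha : a < 9 := hr a (by simp)
    change (nl.getD a Net.nil).perm * wperm (nw r) = _
    rw [ih fun b hb => hr b (List.mem_cons_of_mem _ hb), wprod_cons, pl_eq]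
    congr 1
    unfold lv
    rw [List.getD_eq_getElem _ _ (show a < nl.length from ha),
      List.getD_eq_getElem _ _ (show a < (nl.map Net.perm).length by rw [List.length_map]; exact ha), List.getElem_map]

theorem all_words : ∀ r ∈ wordXt :: words, wprod pl r = 1 := by
  intro r hr
  have hr' : r ∈ ws := by
    simp only [ws, List.mem_cons] at hr ⊢
    tauto
  rw [← wperm_nw r (lt9 r hr')]
  exact ws_ok r hr'

/-- **the networks satisfy the relations** -/
theorem perm_rels : RuRelsX netT.perm⁻¹ netS.perm⁻¹ netW.perm⁻¹ netF.perm⁻¹ netD.perm⁻¹ netY.perm⁻¹ := by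
  refine { toRuRels := (ruRels_iff _ _ _ _ _ _).2 fun r hr => all_words r (List.mem_cons_of_mem _ hr), xt := ?_ }
  rw [← wprod_wordXt]
  exact all_words _ (by simp)

end Cfsg.Agent.RuD.IdxPerm
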