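import Cfsg.Agent.RuD.IdxDef
import Cfsg.Agent.RuD.IdxRel

/-!
# The relators of the certificate in an arbitrary group

`xg t s w f d y a` is the inverse of the letter `a`; the certificate uses left actions.
-/

set_option autoImplicit false
set_option maxRecDepth 100000
set_option linter.constructorNameAsVariable false

namespace Cfsg.Agent.RuD.IdxRelX

open Cfsg.Agent.RuD.Rels Cfsg.Agent.RuD.IdxRel Cfsg.Agent.SporRec.TCUpperCert Cfsg.Agent.RuD.IdxLib
  Cfsg.Agent.RuD.IdxDef

theorem relsC_sub : ∀ r ∈ relsC, r ∈ IdxRel.rels := by decide +kernel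

theorem relsC_lt : ∀ r ∈ relsC, ∀ c ∈ r, c < 17 := by decide +kernel

theorem relsC_inv (a : Lt) (h : isInv a = true) : [a.code, a.code] ∈ relsC ∧ dec a.code = (a, true) := by
  revert h
  cases a <;> decide +kernel

theorem sq_mem_rels (a : Lt) (h : isInv a = true) : [(a, true), (a, true)] ∈ IdxDef.rels := by
  obtain ⟨h1, h2⟩ := relsC_inv a h
  refine List.mem_map.2 ⟨_, h1, ?_⟩
  simp [h2]

section
variable {K : Type*} [Group K]

/-- the inverses of the letters -/
def xg (t s w f d y : K) (a : Lt) : K := (lv (gl t s w f d y) a.code)⁻¹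

theorem gv_dec (t s w f d y : K) (c : ℕ) (hc : c < 17) :
    gv (xg t s w f d y) (dec c) = (lv (gl t s w f d y) c)⁻¹ := by
  interval_cases c <;> simp [dec, gv, xg, Lt.code, lv, gl, mul_assoc]

theorem ev_rev (t s w f d y : K) (r : List ℕ) (hr : ∀ c ∈ r, c < 17) :
    ev (xg t s w f d y) ((r.map dec).reverse) = (wprod (gl t s w f d y) r)⁻¹ := by
  induction r with
  | nil => simp [wprod_nil]
  | cons c r ih =>
    rw [List.map_cons, List.reverse_cons, ev_append, ih (fun b hb => hr b (List.mem_cons_of_mem _ hb)),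
      ev_cons, ev_nil, mul_one, wprod_cons, mul_inv_rev, gv_dec _ _ _ _ _ _ c (hr c List.mem_cons_self)]

theorem ev_rels {t s w f d y : K} (h : RuRelsX t s w f d y) :
    ∀ r ∈ IdxDef.rels, ev (xg t s w f d y) r = 1 := by
  intro r hr
  obtain ⟨r0, h0, rfl⟩ := List.mem_map.1 hr
  rw [ev_rev _ _ _ _ _ _ r0 (relsC_lt r0 h0), rels_ok h r0 (relsC_sub r0 h0), inv_one]

theorem xg_mem_H (t s w f d y : K) (a : Lt) (ha : inH a = true) :
    xg t s w f d y a ∈ Subgroup.closure ({t, s, w, f, d} : Set K) := by
  have ht : t ∈ Subgroup.closure ({t, s, w, f, d} : Set K) := Subgroup.subset_closure (by simp)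
  have hs : s ∈ Subgroup.closure ({t, s, w, f, d} : Set K) := Subgroup.subset_closure (by simp)
  have hw : w ∈ Subgroup.closure ({t, s, w, f, d} : Set K) := Subgroup.subset_closure (by simp)
  have hf : f ∈ Subgroup.closure ({t, s, w, f, d} : Set K) := Subgroup.subset_closure (by simp)
  have hd : d ∈ Subgroup.closure ({t, s, w, f, d} : Set K) := Subgroup.subset_closure (by simp)
  have hfi := Subgroup.inv_mem _ hf
  have hdi := Subgroup.inv_mem _ hd
  apply Subgroup.inv_mem
  cases a
  · exact ht
  · exact mul_mem (mul_mem hdi ht) hd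
  · exact hs
  · exact mul_mem hs hs
  · exact mul_mem (mul_mem (mul_mem hfi hs) hs) hf
  · exact mul_mem (mul_mem (mul_mem (mul_mem (mul_mem hfi hfi) hs) hs) hf) hf
  · exact mul_mem (mul_mem hfi hs) hf
  · exact mul_mem (mul_mem (mul_mem (mul_mem hfi hfi) hs) hf) hf
  · exact hf
  · exact hd
  · exact hw
  · exact absurd ha (by decide)

theorem closure_xg (t s w f d y : K) :
    Subgroup.closure (Set.range (xg t s w f d y)) = Subgroup.closure ({t, s, w, f, d, y} : Set K) := by
  apply le_antisymm
  · rw [Subgroup.closure_le]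
    rintro _ ⟨a, rfl⟩
    by_cases ha : inH a = true
    · refine Subgroup.closure_mono ?_ (xg_mem_H t s w f d y a ha)
      intro z hz
      simp only [Set.mem_insert_iff, Set.mem_singleton_iff] at hz ⊢
      tauto
    · have : a = .y := by
        cases a <;> first | rfl | exact absurd rfl ha
      subst this
      exact Subgroup.inv_mem _ (Subgroup.subset_closure (by simp [lv, gl, Lt.code]))
  · rw [Subgroup.closure_le]
    have key : ∀ a : Lt, (xg t s w f d y a)⁻¹ ∈ Subgroup.closure (Set.range (xg t s w f d y)) :=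
      fun a => Subgroup.inv_mem _ (Subgroup.subset_closure ⟨a, rfl⟩)
    intro z hz
    simp only [Set.mem_insert_iff, Set.mem_singleton_iff] at hz
    rcases hz with rfl | rfl | rfl | rfl | rfl | rfl
    · simpa [xg, lv, gl, Lt.code] using key .t
    · simpa [xg, lv, gl, Lt.code] using key .s
    · simpa [xg, lv, gl, Lt.code] using key .w
    · simpa [xg, lv, gl, Lt.code] using key .f
    · simpa [xg, lv, gl, Lt.code] using key .d
    · simpa [xg, lv, gl, Lt.code] using key .y

end

end Cfsg.Agent.RuD.IdxRelX
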