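import Cfsg.Agent.RuD.Data
import Cfsg.Agent.SporadicB.RuOrder
import Cfsg.Agent.Lib.BitNetSimple
import Cfsg.Agent.SporRec.R3.Kernel
import Cfsg.Agent.SporRec.TCUpperCert

/-! The six elements `t, s, w, f, d, y` (and the inverses of `s, f, d`) of the automorphism group `RuOrder.H`
of the Rudvalis graph; words in them are evaluated in the kernel at the four base points. -/

set_option autoImplicit false
set_option maxRecDepth 100000
set_option exponentiation.threshold 5000

namespace Cfsg.Agent.RuD.Letters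

open Cfsg.Agent.Lib Cfsg.Agent.Lib.BitNet Cfsg.Agent.SporadicB Cfsg.Agent.SporadicB.RuData Cfsg.Agent.SporadicB.RuOrder
open Cfsg.Agent.RuD.Data Cfsg.Agent.SporRec.TCUpperCert Cfsg.Agent.SporRec.R3.Kernel

theorem okT : okNet 4060 nT = true := by decide +kernel
theorem okS : okNet 4060 nS = true := by decide +kernel
theorem okW : okNet 4060 nW = true := by decide +kernel
theorem okF : okNet 4060 nF = true := by decide +kernel
theorem okD : okNet 4060 nD = true := by decide +kernel
theorem okY : okNet 4060 nY = true := by decide +kernel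
theorem invT : invCheck 12 row nT = true := by decide +kernel
theorem invS : invCheck 12 row nS = true := by decide +kernel
theorem invW : invCheck 12 row nW = true := by decide +kernel
theorem invF : invCheck 12 row nF = true := by decide +kernel
theorem invD : invCheck 12 row nD = true := by decide +kernel
theorem invY : invCheck 12 row nY = true := by decide +kernel

/-- the element of the automorphism group given by a checked network -/
def el (l : List (ℕ × ℕ)) (h : okNet 4060 l = true) (h' : invCheck 12 row l = true) : RuOrder.H :=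
  ⟨perm (okNet_sound h), perm_mem_Aut (K := 12) (by norm_num) sym h' _⟩

theorem el_apply (l : List (ℕ × ℕ)) (h : okNet 4060 l = true) (h' : invCheck 12 row l = true) (i : Fin 4060) :
    (((el l h h' : RuOrder.H) : Equiv.Perm (Fin 4060)) i : ℕ) = app l i := rfl

theorem el_inv_apply (l : List (ℕ × ℕ)) (h : okNet 4060 l = true) (h' : invCheck 12 row l = true)
    (i : Fin 4060) :
    (((el l h h')⁻¹ : RuOrder.H) : Equiv.Perm (Fin 4060)) i = (app l.reverse i : ℕ) := by
  rw [BitNetSimple.app_reverse]; rfl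

/-! the letters -/
def T : RuOrder.H := el nT okT invT
def S : RuOrder.H := el nS okS invS
def W : RuOrder.H := el nW okW invW
def F : RuOrder.H := el nF okF invF
def D : RuOrder.H := el nD okD invD
def Y : RuOrder.H := el nY okY invY

/-- the letters `t, s, w, f, d, y, s⁻¹, f⁻¹, d⁻¹` -/
def ml : List RuOrder.H := [T, S, W, F, D, Y, S⁻¹, F⁻¹, D⁻¹]

/-- their networks -/
def NL : List (List (ℕ × ℕ)) := [nT, nS, nW, nF, nD, nY, nS.reverse, nF.reverse, nD.reverse]

theorem lv_apply (a : ℕ) (i : Fin 4060) :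
    (((lv ml a : RuOrder.H) : Equiv.Perm (Fin 4060)) i : ℕ) = app (NL.getD a []) i := by
  rcases lt_or_ge a 9 with h | h
  · interval_cases a
    · rfl
    · rfl
    · rfl
    · rfl
    · rfl
    · rfl
    · exact el_inv_apply _ _ _ i
    · exact el_inv_apply _ _ _ i
    · exact el_inv_apply _ _ _ i
  · rw [lv_of_ge ml a h, List.getD_eq_default _ _ (by exact h)]
    rfl

/-! ### kernel evaluation -/

/-- evaluate the argument first -/
noncomputable def forceN (x : ℕ) (k : ℕ → ℕ) : ℕ :=
  Nat.rec (motive := fun _ => ℕ) (k 0) (fun n _ => k (Nat.succ n)) x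

theorem forceN_eq (x : ℕ) (k : ℕ → ℕ) : forceN x k = k x := by cases x <;> rfl

noncomputable def appK (l : List (ℕ × ℕ)) : ℕ → ℕ :=
  List.rec (motive := fun _ => ℕ → ℕ) (fun i => i) (fun p _ ih i => forceN (sw p.1 p.2 i) ih) l

theorem appK_eq (l : List (ℕ × ℕ)) (i : ℕ) : appK l i = app l i := by
  induction l generalizing i with
  | nil => rfl
  | cons p l ih =>
    change forceN (sw p.1 p.2 i) (appK l) = _
    rw [forceN_eq, ih]
    rfl

noncomputable def nthL (l : List (List (ℕ × ℕ))) : ℕ → List (ℕ × ℕ) :=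
  List.rec (motive := fun _ => ℕ → List (ℕ × ℕ)) (fun _ => [])
    (fun x _ ih a => Nat.rec (motive := fun _ => List (ℕ × ℕ)) x (fun b _ => ih b) a) l

theorem nthL_eq (l : List (List (ℕ × ℕ))) (a : ℕ) : nthL l a = l.getD a [] := by
  induction l generalizing a with
  | nil => rfl
  | cons x l ih =>
    cases a with
    | zero => rfl
    | succ a => exact ih a

/-- evaluate a word at a point (the last letter acts first) -/
noncomputable def evalK (w : List ℕ) (i : ℕ) : ℕ :=
  List.rec (motive := fun _ => ℕ) i (fun a _ ih => forceN ih (appK (nthL NL a))) w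

theorem evalK_eq (w : List ℕ) (i : Fin 4060) :
    (((wprod ml w : RuOrder.H) : Equiv.Perm (Fin 4060)) i : ℕ) = evalK w i := by
  induction w with
  | nil => rfl
  | cons a w ih =>
    rw [wprod_cons]
    change (((lv ml a : RuOrder.H) : Equiv.Perm (Fin 4060))
      (((wprod ml w : RuOrder.H) : Equiv.Perm (Fin 4060)) i) : ℕ) = forceN (evalK w i) (appK (nthL NL a))
    rw [lv_apply, forceN_eq, appK_eq, nthL_eq, ih]

theorem eq_one_of_base {x : RuOrder.H} (h1 : (x : Equiv.Perm (Fin 4060)) b1 = b1)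
    (h2 : (x : Equiv.Perm (Fin 4060)) b2 = b2) (h3 : (x : Equiv.Perm (Fin 4060)) b3 = b3)
    (h4 : (x : Equiv.Perm (Fin 4060)) b4 = b4) : x = 1 := by
  have h := Nat.card_eq_one_iff_unique.1 card_H4
  have := h.1
  have e := Subsingleton.elim (⟨x, ⟨⟨⟨x.2, h1⟩, h2⟩, h3⟩, h4⟩ : H4) 1
  apply Subtype.ext
  have e' := congrArg Subtype.val e
  exact e'

/-- two elements agreeing at the base points are equal -/
theorem eq_of_base {x y : RuOrder.H}
    (h : ∀ b ∈ [b1, b2, b3, b4], ((x : Equiv.Perm (Fin 4060)) b : ℕ) = (y : Equiv.Perm (Fin 4060)) b) : x = y := by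
  have key : ∀ b ∈ [b1, b2, b3, b4], ((y⁻¹ * x : RuOrder.H) : Equiv.Perm (Fin 4060)) b = b := by
    intro b hb
    have := Fin.ext (h b hb)
    change (y : Equiv.Perm (Fin 4060))⁻¹ ((x : Equiv.Perm (Fin 4060)) b) = b
    rw [this]
    exact Equiv.symm_apply_apply _ _
  have := eq_one_of_base (key b1 (by simp)) (key b2 (by simp)) (key b3 (by simp)) (key b4 (by simp))
  rw [inv_mul_eq_one] at this
  exact this.symm

/-- kernel check of relators -/
noncomputable def chkRel (rels : List (List ℕ)) : Bool :=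
  allL (fun r => allL (fun b => Nat.beq (evalK r b) b) [0, 29, 580, 577]) rels

theorem rel_of_chk {rels : List (List ℕ)} (h : chkRel rels = true) : ∀ r ∈ rels, wprod ml r = 1 := by
  intro r hr
  have h1 := (allL_iff _ _).1 ((allL_iff _ _).1 h r hr)
  apply eq_of_base
  intro b hb
  rw [evalK_eq]
  simp only [List.mem_cons, List.not_mem_nil, or_false] at hb
  rcases hb with rfl | rfl | rfl | rfl
  · exact Nat.eq_of_beq_eq_true (h1 0 (by simp))
  · exact Nat.eq_of_beq_eq_true (h1 29 (by simp))
  · exact Nat.eq_of_beq_eq_true (h1 580 (by simp))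
  · exact Nat.eq_of_beq_eq_true (h1 577 (by simp))

/-! ### generation -/

/-- words (in right action notation) for the six networks of `RuData` -/
noncomputable def chkNet (l : List (ℕ × ℕ)) (w : List ℕ) : Bool :=
  allL (fun b => Nat.beq (evalK w b) (appK l b)) [0, 29, 580, 577]

theorem mem_of_chkNet {l : List (ℕ × ℕ)} (hl : ∃ h : OkNet 4060 l, perm h ∈ RuOrder.H) {w : List ℕ}
    (h : chkNet l w = true) :
    ∃ h : OkNet 4060 l, perm h ∈ (Subgroup.closure {x | x ∈ ml}).map RuOrder.H.subtype := by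
  obtain ⟨h0, hm⟩ := hl
  refine ⟨h0, ⟨⟨perm h0, hm⟩, ?_, rfl⟩⟩
  have e : (⟨perm h0, hm⟩ : RuOrder.H) = wprod ml w := by
    symm
    apply eq_of_base
    have h1 := (allL_iff _ _).1 h
    intro b hb
    rw [evalK_eq]
    change _ = app l b
    rw [← appK_eq]
    simp only [List.mem_cons, List.not_mem_nil, or_false] at hb
    rcases hb with rfl | rfl | rfl | rfl
    · exact Nat.eq_of_beq_eq_true (h1 0 (by simp))
    · exact Nat.eq_of_beq_eq_true (h1 29 (by simp))
    · exact Nat.eq_of_beq_eq_true (h1 580 (by simp))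
    · exact Nat.eq_of_beq_eq_true (h1 577 (by simp))
  rw [e]
  have key : ∀ w : List ℕ, wprod ml w ∈ Subgroup.closure {x | x ∈ ml} := by
    intro w
    induction w with
    | nil => exact one_mem _
    | cons a w ih =>
      rw [wprod_cons]
      refine mul_mem ?_ ih
      rcases lt_or_ge a ml.length with ha | ha
      · apply Subgroup.subset_closure
        change lv ml a ∈ ml
        rw [lv, List.getD_eq_getElem _ _ ha]
        exact List.getElem_mem ha
      · rw [lv_of_ge ml a ha]; exact one_mem _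
  exact key w

/-! words for the six networks -/
theorem gen0 : chkNet net0 [2, 1, 5, 0, 3, 5, 3, 4, 5, 6, 3, 5, 7, 8, 1, 3, 0, 5, 3] = true := by decide +kernel
theorem gen1 : chkNet net1 [5, 7, 6, 2, 6, 8, 7, 5, 1, 1, 7, 1, 2, 1, 7, 6, 5] = true := by decide +kernel
theorem gen2 : chkNet net2 [7, 6, 2, 8, 7, 1, 5, 3, 6, 7, 0, 5, 1, 3, 3, 2, 1, 3] = true := by decide +kernel
theorem gen3 : chkNet net3 [3, 1, 3, 1, 2, 6, 3, 4, 5, 3, 0, 5, 1, 1, 3, 3, 3, 2] = true := by decide +kernel
theorem gen4 : chkNet net4 [0, 1, 7, 1, 3, 5, 7, 8, 1, 3, 5, 4, 7, 5, 1, 2] = true := by decide +kernel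
theorem gen5 : chkNet net5 [3, 1, 5, 4, 0, 3, 5, 3, 1, 4, 5, 7, 2, 1, 3, 0, 4, 3, 2, 1] = true := by decide +kernel

theorem closure_ml : Subgroup.closure {x | x ∈ ml} = ⊤ := by
  set K : Subgroup (Equiv.Perm (Fin 4060)) := (Subgroup.closure {x | x ∈ ml}).map RuOrder.H.subtype with hK
  have m0 : ∃ h : OkNet 4060 net0, perm h ∈ K := mem_of_chkNet mem0 gen0
  have m1 : ∃ h : OkNet 4060 net1, perm h ∈ K := mem_of_chkNet mem1 gen1
  have m2 : ∃ h : OkNet 4060 net2, perm h ∈ K := mem_of_chkNet mem2 gen2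
  have m3 : ∃ h : OkNet 4060 net3, perm h ∈ K := mem_of_chkNet mem3 gen3
  have m4 : ∃ h : OkNet 4060 net4, perm h ∈ K := mem_of_chkNet mem4 gen4
  have m5 : ∃ h : OkNet 4060 net5, perm h ∈ K := mem_of_chkNet mem5 gen5
  have l0 := lower_step (K := 12) (k := 8) (H := K) (b := b1) (gs := [net0, net1, net2, net3, net4, net5]) (by
    intro g hg
    simp only [List.mem_cons, List.not_mem_nil, or_false] at hg
    rcases hg with rfl | rfl | rfl | rfl | rfl | rfl <;> assumption) orb1
  set K1 := K ⊓ MulAction.stabilizer (Equiv.Perm (Fin 4060)) b1 with hK1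
  have m0 : ∃ h : OkNet 4060 net0, perm h ∈ K1 := mem_inf_stabilizer m0 fix0.1
  have m1 : ∃ h : OkNet 4060 net1, perm h ∈ K1 := mem_inf_stabilizer m1 fix1.1
  have m2 : ∃ h : OkNet 4060 net2, perm h ∈ K1 := mem_inf_stabilizer m2 fix2.1
  have m3 : ∃ h : OkNet 4060 net3, perm h ∈ K1 := mem_inf_stabilizer m3 fix3.1
  have m4 : ∃ h : OkNet 4060 net4, perm h ∈ K1 := mem_inf_stabilizer m4 fix4
  have l1 := lower_step (K := 12) (k := 8) (H := K1) (b := b2) (gs := [net0, net1, net2, net3, net4]) (by
    intro g hg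
    simp only [List.mem_cons, List.not_mem_nil, or_false] at hg
    rcases hg with rfl | rfl | rfl | rfl | rfl <;> assumption) orb2
  set K2 := K1 ⊓ MulAction.stabilizer (Equiv.Perm (Fin 4060)) b2 with hK2
  have m0 : ∃ h : OkNet 4060 net0, perm h ∈ K2 := mem_inf_stabilizer m0 fix0.2.1
  have m1 : ∃ h : OkNet 4060 net1, perm h ∈ K2 := mem_inf_stabilizer m1 fix1.2.1
  have m2 : ∃ h : OkNet 4060 net2, perm h ∈ K2 := mem_inf_stabilizer m2 fix2.2.1
  have m3 : ∃ h : OkNet 4060 net3, perm h ∈ K2 := mem_inf_stabilizer m3 fix3.2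
  have l2 := lower_step (K := 12) (k := 8) (H := K2) (b := b3) (gs := [net0, net1, net2, net3]) (by
    intro g hg
    simp only [List.mem_cons, List.not_mem_nil, or_false] at hg
    rcases hg with rfl | rfl | rfl | rfl <;> assumption) orb3
  set K3 := K2 ⊓ MulAction.stabilizer (Equiv.Perm (Fin 4060)) b3 with hK3
  have m0 : ∃ h : OkNet 4060 net0, perm h ∈ K3 := mem_inf_stabilizer m0 fix0.2.2
  have m1 : ∃ h : OkNet 4060 net1, perm h ∈ K3 := mem_inf_stabilizer m1 fix1.2.2
  have m2 : ∃ h : OkNet 4060 net2, perm h ∈ K3 := mem_inf_stabilizer m2 fix2.2.2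
  have l3 := lower_step (K := 12) (k := 8) (H := K3) (b := b4) (gs := [net0, net1, net2]) (by
    intro g hg
    simp only [List.mem_cons, List.not_mem_nil, or_false] at hg
    rcases hg with rfl | rfl | rfl <;> assumption) orb4
  have l4 : 1 ≤ Nat.card ↥(K3 ⊓ MulAction.stabilizer (Equiv.Perm (Fin 4060)) b4) := Nat.card_pos
  have hc : 145926144000 ≤ Nat.card K := by omega
  apply Subgroup.eq_top_of_card_eq
  have e : Nat.card K = Nat.card (Subgroup.closure {x | x ∈ ml}) := by
    rw [hK]
    exact Nat.card_congr ((Subgroup.closure {x | x ∈ ml}).equivMapOfInjective RuOrder.H.subtype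
      (Subgroup.subtype_injective _)).toEquiv.symm
  have h1 := Subgroup.card_le_card_group (Subgroup.closure {x | x ∈ ml})
  rw [card_H] at h1 ⊢
  rw [← e] at h1 ⊢
  exact le_antisymm h1 hc

end Cfsg.Agent.RuD.Letters
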